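import Cfsg.Agent.H873.RG.Defs
import Cfsg.Agent.H867.RC.Spor
import Cfsg.Agent.H287.HNc
import Cfsg.Agent.HN.StepFive
import Cfsg.Agent.H225.AxB

/-!
# S3509, row `HN`: the environment and the involutions of the class 2A (helper680)

`G` with a normal subgroup `N ≅ HN`, `C_G(N) = 1`; `j e : HN → G`, `al e : G → Aut(HN)`.

* `rule2A` : a cover by commuting elements of different prime orders and an element `s` of the class 2A commuting with all of
  them: contradiction (M-rule with `2.HS`).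
-/

set_option autoImplicit false
set_option linter.unusedSectionVars false
set_option linter.unusedVariables false

namespace Cfsg.Agent.H680.RG.HN

open Subgroup Cfsg MulAction
open Cfsg.Agent.H106.RC
open Cfsg.Agent.HN Cfsg.Agent.HN.P1408 Cfsg.Agent.HN.H0Basic
open Cfsg.Agent.HN.HS100 (K)

/-- the model -/
abbrev HNG : Type := Cfsg.Spor.HN

theorem finH : Finite HNG := Cfsg.Agent.KFacts.HN.finite_HN

section emb

variable {G : Type*} [Group G] {N : Subgroup G} [hN : N.Normal] (e : N ≃* HNG)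

/-- the embedding -/
noncomputable def j : HNG →* G := N.subtype.comp e.symm.toMonoidHom

/-- the action on `HN` -/
noncomputable def al : G →* MulAut HNG := (MulAut.congr e).toMonoidHom.comp MulAut.conjNormal

theorem j_mem (x : HNG) : j e x ∈ N := (e.symm x).2

theorem j_inj : Function.Injective (j e) := fun a b h => e.symm.injective (Subtype.ext h)

theorem exists_j {g : G} (hg : g ∈ N) : ∃ x, j e x = g := ⟨e ⟨g, hg⟩, by
  change ((e.symm (e ⟨g, hg⟩) : N) : G) = g
  rw [MulEquiv.symm_apply_apply]⟩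

theorem j_al (g : G) (x : HNG) : j e (al e g x) = g * j e x * g⁻¹ := by
  have h : al e g x = e (MulAut.conjNormal g (e.symm x)) := rfl
  rw [h]
  change ((e.symm (e (MulAut.conjNormal g (e.symm x))) : N) : G) = _
  rw [MulEquiv.symm_apply_apply, MulAut.conjNormal_apply]
  rfl

theorem al_j (x : HNG) : al e (j e x) = MulAut.conj x := by
  ext y
  apply j_inj e
  rw [j_al, MulAut.conj_apply, map_mul, map_mul, map_inv]

theorem comm_iff {g : G} {x : HNG} : g * j e x = j e x * g ↔ al e g x = x := by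
  rw [← (j_inj e).eq_iff, j_al, mul_inv_eq_iff_eq_mul]

theorem eq_j (hc : centralizer (N : Set G) = ⊥) {g : G} {x : HNG} (h : al e g = MulAut.conj x) : g = j e x := by
  have h1 : g⁻¹ * j e x ∈ centralizer (N : Set G) := by
    rw [mem_centralizer_iff]
    intro n hn
    obtain ⟨y, rfl⟩ := exists_j e hn
    have h2 : al e (g⁻¹ * j e x) y = y := by rw [map_mul, map_inv, al_j, h, inv_mul_cancel, MulAut.one_apply]
    exact ((comm_iff e).2 h2).symm
  rw [hc, mem_bot, inv_mul_eq_one] at h1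
  exact h1

theorem mem_of_inner (hc : centralizer (N : Set G) = ⊥) {g : G} (h : ∃ x, al e g = MulAut.conj x) : g ∈ N := by
  obtain ⟨x, hx⟩ := h
  rw [eq_j e hc hx]
  exact j_mem e x

include e in
/-- squares are in `N` -/
theorem sq_mem (hc : centralizer (N : Set G) = ⊥) (g : G) : g * g ∈ N := by
  apply mem_of_inner e hc
  have h : al e (g * g) ∈ (MulAut.conj : HNG →* MulAut HNG).range := by
    rw [map_mul]
    rcases Cfsg.Agent.KFacts.HN.out_index with h | h
    · rw [Subgroup.index_eq_one] at h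
      rw [h]
      exact mem_top _
    · exact Subgroup.mul_self_mem_of_index_two h _
  obtain ⟨x, hx⟩ := h
  exact ⟨x, hx.symm⟩

include e in
/-- elements of odd order are in `N` -/
theorem odd_mem (hc : centralizer (N : Set G) = ⊥) {g : G} {r : ℕ} (hr : Odd r) (hg : g ^ r = 1) : g ∈ N := by
  obtain ⟨k, rfl⟩ := hr
  have h1 : g = (g * g) ^ (k + 1) := by
    rw [← pow_two, ← pow_mul, show 2 * (k + 1) = 2 * k + 1 + 1 by ring, pow_succ, hg, one_mul]
  rw [h1]
  exact N.pow_mem (sq_mem e hc g) _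

/-- the twisted equivalence -/
noncomputable abbrev tw (c : HNG) : N ≃* HNG := e.trans (MulAut.conj c)

theorem j_tw (c x : HNG) : j (tw e c) x = j e (c⁻¹ * x * c) := by
  change ((e.symm ((MulAut.conj c).symm x) : N) : G) = ((e.symm (c⁻¹ * x * c) : N) : G)
  rw [MulAut.conj_symm_apply]

/-- the twist which moves `s` to `s'` -/
theorem exists_tw {s s' : HNG} (h : IsConj s s') : ∃ c, j (tw e c) s' = j e s := by
  obtain ⟨c, rfl⟩ := isConj_iff.1 h
  refine ⟨c, ?_⟩
  rw [j_tw]
  congr 1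
  group

/-- prime order elements: the order of the preimage -/
theorem order_j (x : HNG) : orderOf (j e x) = orderOf x := orderOf_injective _ (j_inj e) x

end emb

/-! ### The group `2.HS` -/

section M

variable {G : Type*} [Group G] {N : Subgroup G} [hN : N.Normal] (e : N ≃* HNG)

/-- `2.HS` in `G` -/
noncomputable def MM : Subgroup G := (Cfsg.Agent.CTwoTab.HN.N).map (j e)

theorem mem_MM {g : G} : g ∈ MM e ↔ ∃ k ∈ K, j e (NormalH.ψ k) = g := by
  unfold MM Cfsg.Agent.CTwoTab.HN.N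
  rw [mem_map]
  constructor
  · rintro ⟨_, ⟨k, hk, rfl⟩, rfl⟩
    exact ⟨k, hk, rfl⟩
  · rintro ⟨k, hk, rfl⟩
    exact ⟨_, ⟨k, hk, rfl⟩, rfl⟩

theorem MM_le : MM e ≤ N := by
  rintro _ ⟨x, -, rfl⟩
  exact j_mem e x

theorem MM_comm : ⁅MM e, MM e⁆ = MM e := by
  unfold MM
  rw [← map_commutator, Cfsg.Agent.H287.OutHN.comm_N]

/-- the isomorphism with `K` -/
noncomputable def eM : MM e ≃* K :=
  ((Cfsg.Agent.CTwoTab.HN.N).equivMapOfInjective (j e) (j_inj e)).symm.trans Cfsg.Agent.CTwoTab.HN.eN.symm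

theorem exists_pi : ∃ π : MM e →* Cfsg.Spor.HS, Function.Surjective π ∧ π.ker ≤ center (MM e) := by
  obtain ⟨q⟩ := Cfsg.Agent.CTwoTab.HN.quo_equiv
  refine ⟨q.toMonoidHom.comp ((QuotientGroup.mk' (center K)).comp (eM e).toMonoidHom), ?_, ?_⟩
  · exact q.surjective.comp ((QuotientGroup.mk'_surjective _).comp (eM e).surjective)
  · intro m hm
    rw [MonoidHom.mem_ker] at hm
    have h1 : QuotientGroup.mk' (center K) (eM e m) = 1 := q.injective (hm.trans (map_one q).symm)
    have h2 : eM e m ∈ center K := (QuotientGroup.eq_one_iff _).1 h1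
    rw [mem_center_iff] at h2 ⊢
    intro y
    apply (eM e).injective
    rw [map_mul, map_mul]
    exact h2 (eM e y)

theorem τ_mem : j e (NormalH.ψ τ) ∈ MM e := (mem_MM e).2 ⟨τ, τ_mem_K, rfl⟩

/-- elements commuting with `s` normalise `2.HS` -/
theorem norm_MM [Finite G] {g : G} (hg : g * j e (NormalH.ψ τ) = j e (NormalH.ψ τ) * g) :
    g ∈ normalizer (MM e : Set G) := by
  have key : ∀ g : G, g * j e (NormalH.ψ τ) = j e (NormalH.ψ τ) * g → ∀ m ∈ MM e, g * m * g⁻¹ ∈ MM e := by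
    rintro g hg _ ⟨x, hx, rfl⟩
    rw [← j_al]
    exact ⟨_, Cfsg.Agent.H287.OutHN.map_N ((comm_iff e).1 hg) hx, rfl⟩
  rw [mem_normalizer_iff]
  intro m
  refine ⟨key g hg m, fun h => ?_⟩
  have h1 := key g⁻¹ (by rw [inv_mul_eq_iff_eq_mul, ← mul_assoc, hg, mul_inv_cancel_right]) _ h
  rw [inv_inv] at h1
  have h2 : g⁻¹ * (g * m * g⁻¹) * g = m := by group
  rwa [h2] at h1

/-- an element of prime order centralising `2.HS` -/
theorem cent_MM (hc : centralizer (N : Set G) = ⊥) {g : G} {r : ℕ} (hr : r.Prime) (hgr : g ^ r = 1)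
    (h : ∀ m ∈ MM e, g * m = m * g) : g = 1 ∨ g = j e (NormalH.ψ τ) := by
  have hgN : g ∈ N := by
    rcases hr.eq_two_or_odd' with rfl | ho
    · apply mem_of_inner e hc
      apply Cfsg.Agent.H287.OutHN.inner_of_fix
      · rw [← map_mul, ← pow_two, hgr, map_one]
      · intro x hx
        exact (comm_iff e).1 (h _ ⟨x, hx, rfl⟩)
    · exact odd_mem e hc ho hgr
  obtain ⟨y, rfl⟩ := exists_j e hgN
  have hy : ∀ k ∈ K, y * NormalH.ψ k = NormalH.ψ k * y := by
    intro k hk
    apply j_inj e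
    rw [map_mul, map_mul]
    exact h _ ((mem_MM e).2 ⟨k, hk, rfl⟩)
  obtain ⟨u, rfl⟩ := Cfsg.Agent.KFacts.HN.emb.cent y (hy τ τ_mem_K)
  have h1 : ∀ k ∈ K, u * k = k * u := by
    intro k hk
    apply Cfsg.Agent.KFacts.HN.emb.inj
    rw [map_mul, map_mul]
    exact hy k hk
  rcases StepFive.eq_of_comm_K h1 with rfl | rfl
  · left; rw [map_one, map_one]
  · right; rfl

end M

section rule

variable {G Ω ι : Type} [Group G] [Finite G] [MulAction G Ω] {N : Subgroup G} [hN : N.Normal]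

theorem hs_ncomm : ¬ IsMulCommutative Cfsg.Spor.HS := by
  intro hc
  have := Cfsg.Agent.CTwoTab.HN.simple_HS
  let _ : CommGroup Cfsg.Spor.HS := { (inferInstance : Group Cfsg.Spor.HS) with mul_comm := hc.is_comm.comm }
  have : Finite Cfsg.Spor.HS := Nat.finite_of_card_ne_zero (by rw [Cfsg.Agent.CTwoTab.HN.card_HS]; norm_num)
  have hp := IsSimpleGroup.prime_card (α := Cfsg.Spor.HS)
  rw [Cfsg.Agent.CTwoTab.HN.card_HS] at hp
  exact absurd hp (by norm_num)

/-- **Rule 2A**, `s = ψ τ` -/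
theorem rule2A0 [Nonempty Ω] [Finite ι] (hRC : RC Cfsg.Spor.HS) (hE : Env G Ω N) (e : N ≃* HNG) {x : ι → G} {r : ι → ℕ}
    (hx : PF x r) (hcomm : ∀ i, x i * j e (NormalH.ψ τ) = j e (NormalH.ψ τ) * x i)
    (hc : ∀ ω : Ω, (∃ i, x i • ω = ω) ∨ j e (NormalH.ψ τ) • ω = ω) : False := by
  obtain ⟨π, hπ, hker⟩ := exists_pi e
  set s := j e (NormalH.ψ τ) with hs
  have hs1 : s ≠ 1 := by
    intro h
    have h1 : NormalH.ψ τ = 1 := j_inj e (h.trans (map_one _).symm)
    exact τ_ne_one (Cfsg.Agent.KFacts.HN.emb.inj (h1.trans (map_one _).symm))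
  apply hs1
  refine hE.single fun ω => ?_
  by_contra hω
  have hsm : ∀ m ∈ MM e, s * m = m * s := by
    intro m hm
    obtain ⟨k, hk, rfl⟩ := (mem_MM e).1 hm
    rw [hs, ← map_mul, ← map_mul, ← map_mul, ← map_mul, τ_comm]
  have hcov : ∀ m ∈ MM e, ∃ i, x i • m • ω = m • ω := by
    intro m hm
    refine (hc (m • ω)).resolve_right fun h => hω ?_
    rw [← mul_smul, hsm m hm, mul_smul] at h
    exact smul_left_cancel _ h
  rcases mrule_RC Cfsg.Agent.CTwoTab.HN.simple_HS hs_ncomm x r hx.prime hx.inj hx.pow hx.comm (MM e) (MM_comm e) π hπ hker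
    (fun i => norm_MM e (hcomm i)) hRC ω hcov with h | ⟨i, h1, h2⟩
  · exact hω (h (τ_mem e))
  · rcases cent_MM e hE.cent (hx.prime i) (hx.pow i) h1 with h | h
    · exact hx.ne i h
    · rw [h] at h2
      exact hω h2

/-- **Rule 2A** -/
theorem rule2A [Nonempty Ω] [Finite ι] (hRC : RC Cfsg.Spor.HS) (hE : Env G Ω N) (e : N ≃* HNG) {x : ι → G} {r : ι → ℕ}
    (hx : PF x r) {s : HNG} (hs : IsConj s (NormalH.ψ τ)) (hcomm : ∀ i, x i * j e s = j e s * x i)
    (hc : ∀ ω : Ω, (∃ i, x i • ω = ω) ∨ j e s • ω = ω) : False := by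
  obtain ⟨c, hc'⟩ := exists_tw e hs
  refine rule2A0 hRC hE (tw e c) hx ?_ ?_
  · rw [hc']; exact hcomm
  · rw [hc']; exact hc

end rule

end Cfsg.Agent.H680.RG.HN
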