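import Cfsg.Agent.H680.RG.HN.Perm
import Cfsg.Agent.H680.HNF.NoFF
import Cfsg.Agent.H705.OreB.HNFive
import Cfsg.Agent.H291.Parity
import Cfsg.Agent.H729.PairBase

/-!
# S3509, row `HN`: the centralizers of elements of orders 3, 5, 7 (helper680)

* `blk1`, `blk7` : `C(X1) = ⟨X1⟩ × A9`, `C(X7) = ⟨X7⟩ × A5`;
* `key_fix` : an involutory automorphism of `HN` fixing `X` and a cycle of `alt S'` is trivial on `alt S'`;
* `red17`, `red15`, `red75` : pairs of commuting elements are conjugate to the standard ones;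
* `even35` : commuting elements of orders 3 and 5, the first of the second class, commute with an involution;
* `no_105` : no commuting elements of orders 3, 5, 7;
* `norm19` : the normalizer of a Sylow 19-subgroup has odd order.
-/

set_option autoImplicit false
set_option linter.unusedSectionVars false
set_option linter.unusedVariables false

namespace Cfsg.Agent.H680.RG.HN.Cent

open Subgroup Cfsg
open Cfsg.Agent
open Cfsg.Agent.H680.RG.HN.Perm12
open Cfsg.Agent.UAlt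
open Cfsg.Agent.CpAutHN.Pairs (G X1 X3 S3 tt order_X1 order_X3 order_S3 order_tt isConj_tt comm_of instSimple)
open Cfsg.Agent.CpAutHN.Alt (Φ Φ_inj A12 cy x1 x1_mem t2 t2_mem x3_mem s3_mem)
open Cfsg.Agent.H845.HNSeven (X7 order_X7 c7_mem)
open scoped commutatorElement

attribute [local instance] Cfsg.Agent.H569.HNThree.finite_G

/-! ### The subgroups `alt S` -/

/-- the image of `alt S` -/
noncomputable def ph (S : Finset (Fin 12)) : alt S →* G := Φ.comp (Subgroup.inclusion (alt_le S))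

theorem ph_inj (S : Finset (Fin 12)) : Function.Injective (ph S) :=
  Φ_inj.comp (Subgroup.inclusion_injective (alt_le S))

theorem ph_mk {S : Finset (Fin 12)} (a : P) (ha : a ∈ alt S) : ph S ⟨a, ha⟩ = Φ ⟨a, ha.1⟩ := rfl

theorem ph_mono {S S' : Finset (Fin 12)} (h : S' ⊆ S) (a : alt S') : ph S ⟨a, alt_mono h a.2⟩ = ph S' a := rfl

/-- `C(X) = ⟨X⟩ × alt S` -/
structure Blk (X : G) (S : Finset (Fin 12)) : Prop where
  five : 5 ≤ S.card
  six : S.card ≠ 6
  comm : ∀ a : alt S, ph S a * X = X * ph S a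
  mem : ∀ y : G, y * X = X * y → ∃ (i : ℕ) (a : alt S), y = X ^ i * ph S a

theorem blk1 : Blk X1 S9 where
  five := by decide
  six := by decide
  comm a := by
    refine comm_of a.2.1 x1_mem ?_
    refine (mul_inv_eq_iff_eq_mul.1 (Perm12.comm_of_fix (S := S9) (fun p hp => (x1_S p).1 hp) a.2.2)).symm
  mem y hy := by
    obtain ⟨f, rfl⟩ := Cfsg.Agent.H187.Ore.HNX1.exists_perm hy
    have h1 : f * ⟨x1, x1_mem⟩ = ⟨x1, x1_mem⟩ * f := by
      apply Φ_inj
      rw [map_mul, map_mul]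
      exact hy
    obtain ⟨i, g, hg, hfg⟩ := cent_x1 (congrArg Subtype.val h1)
    have hgA : g ∈ alternatingGroup (Fin 12) := by
      have h2 : g = (x1 ^ i)⁻¹ * f := by rw [hfg]; group
      rw [h2]
      exact mul_mem (inv_mem (pow_mem x1_mem i)) f.2
    refine ⟨i, ⟨g, mem_alt.2 ⟨hgA, hg⟩⟩, ?_⟩
    rw [ph_mk]
    change Φ f = Φ ⟨x1, x1_mem⟩ ^ i * _
    rw [← map_pow, ← map_mul]
    exact congrArg Φ (Subtype.ext hfg)

theorem blk7 : Blk X7 T5 where
  five := by decide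
  six := by decide
  comm a := by
    refine comm_of a.2.1 c7_mem ?_
    refine (mul_inv_eq_iff_eq_mul.1 (Perm12.comm_of_fix (S := T5) (fun p hp => (c7_S p).1 hp) a.2.2)).symm
  mem y hy := by
    obtain ⟨f, rfl⟩ := Cfsg.Agent.H187.Ore.HNX1.cent_X7_le (mem_centralizer_singleton_iff.2 hy)
    have h1 : f * ⟨c7, c7_mem⟩ = ⟨c7, c7_mem⟩ * f := by
      apply Φ_inj
      rw [map_mul, map_mul]
      exact hy
    obtain ⟨i, g, hg, hfg⟩ := cent_c7 (congrArg Subtype.val h1)
    have hgA : g ∈ alternatingGroup (Fin 12) := by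
      have h2 : g = (c7 ^ i)⁻¹ * f := by rw [hfg]; group
      rw [h2]
      exact mul_mem (inv_mem (pow_mem c7_mem i)) f.2
    refine ⟨i, ⟨g, mem_alt.2 ⟨hgA, hg⟩⟩, ?_⟩
    rw [ph_mk]
    change Φ f = Φ ⟨c7, c7_mem⟩ ^ i * _
    rw [← map_pow, ← map_mul]
    exact congrArg Φ (Subtype.ext hfg)

section blk

variable {X : G} {S : Finset (Fin 12)}

theorem Blk.commutator (h : Blk X S) : ⁅centralizer ({X} : Set G), centralizer ({X} : Set G)⁆ = (ph S).range := by
  apply le_antisymm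
  · rw [Subgroup.commutator_le]
    intro y hy z hz
    obtain ⟨i, a, rfl⟩ := h.mem y (mem_centralizer_singleton_iff.1 hy)
    obtain ⟨k, b, rfl⟩ := h.mem z (mem_centralizer_singleton_iff.1 hz)
    have ha : Commute (ph S a) X := h.comm a
    have hb : Commute (ph S b) X := h.comm b
    refine ⟨⁅a, b⁆, ?_⟩
    have e1 : Commute (X ^ i) (ph S a * X ^ k * ph S b * (ph S a)⁻¹) :=
      ((((ha.symm.pow_left i).mul_right ((Commute.refl X).pow_pow i k))).mul_right (hb.symm.pow_left i)).mul_right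
        (ha.symm.pow_left i).inv_right
    have e2 : Commute (X ^ k) (ph S a * ph S b * (ph S a)⁻¹ * (ph S b)⁻¹) :=
      (((ha.symm.pow_left k).mul_right (hb.symm.pow_left k)).mul_right (ha.symm.pow_left k).inv_right).mul_right
        (hb.symm.pow_left k).inv_right
    have e3 : ph S a * X ^ k = X ^ k * ph S a := ha.pow_right k
    rw [map_commutatorElement, commutatorElement_def, commutatorElement_def]
    symm
    calc X ^ i * ph S a * (X ^ k * ph S b) * (X ^ i * ph S a)⁻¹ * (X ^ k * ph S b)⁻¹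
        = X ^ i * (ph S a * X ^ k * ph S b * (ph S a)⁻¹) * (X ^ i)⁻¹ * (ph S b)⁻¹ * (X ^ k)⁻¹ := by group
      _ = ph S a * X ^ k * ph S b * (ph S a)⁻¹ * (ph S b)⁻¹ * (X ^ k)⁻¹ := by
        rw [e1.eq, mul_inv_cancel_right]
      _ = X ^ k * (ph S a * ph S b * (ph S a)⁻¹ * (ph S b)⁻¹) * (X ^ k)⁻¹ := by rw [e3]; group
      _ = ph S a * ph S b * (ph S a)⁻¹ * (ph S b)⁻¹ := by rw [e2.eq, mul_inv_cancel_right]
  · have h1 : (ph S).range = ⁅(ph S).range, (ph S).range⁆ := by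
      rw [MonoidHom.range_eq_map, ← Subgroup.map_commutator]
      have h2 := alt_perfect h.five
      rw [commutator_def] at h2
      rw [h2]
    rw [h1]
    have h3 : (ph S).range ≤ centralizer ({X} : Set G) := by
      rintro _ ⟨a, rfl⟩
      exact mem_centralizer_singleton_iff.2 (h.comm a)
    exact Subgroup.commutator_mono h3 h3

theorem map_cent {α : MulAut G} (hα : α X = X) :
    (centralizer ({X} : Set G)).map (α : G ≃* G).toMonoidHom = centralizer ({X} : Set G) := by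
  ext y
  rw [mem_map]
  constructor
  · rintro ⟨z, hz, rfl⟩
    rw [mem_centralizer_singleton_iff] at hz ⊢
    change α z * X = X * α z
    rw [← hα, ← map_mul, ← map_mul, hz]
  · intro hy
    refine ⟨α.symm y, ?_, α.apply_symm_apply y⟩
    rw [mem_centralizer_singleton_iff] at hy ⊢
    apply α.injective
    rw [map_mul, map_mul, α.apply_symm_apply, hα]
    exact hy

theorem Blk.map_range (h : Blk X S) {α : MulAut G} (hα : α X = X) :
    (ph S).range.map (α : G ≃* G).toMonoidHom = (ph S).range := by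
  rw [← h.commutator, Subgroup.map_commutator, map_cent hα]

/-- the permutation induced by an involutory automorphism -/
theorem Blk.exists_sigma (h : Blk X S) {α : MulAut G} (hα : α X = X) (hαα : α * α = 1) :
    ∃ σ ∈ sym S, σ * σ = 1 ∧ ∀ a : alt S, ∃ b : alt S, (b : P) = σ * a * σ⁻¹ ∧ α (ph S a) = ph S b := by
  obtain ⟨ψ, hψ, hψ'⟩ := exists_altAut_five h.five h.six
  let e : alt S ≃* (ph S).range := MonoidHom.ofInjective (ph_inj S)
  let A : (ph S).range ≃* (ph S).range :=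
    (MulEquiv.subgroupMap (α : G ≃* G) (ph S).range).trans (MulEquiv.subgroupCongr (h.map_range hα))
  let f : MulAut (alt S) := e.trans (A.trans e.symm)
  have hf : ∀ a : alt S, ph S (f a) = α (ph S a) := by
    intro a
    have h1 : e (f a) = A (e a) := e.apply_symm_apply _
    have h2 : ((e (f a) : (ph S).range) : G) = ph S (f a) := rfl
    rw [← h2, h1]
    rfl
  have hff : f * f = 1 := by
    apply MulEquiv.ext
    intro a
    apply ph_inj S
    rw [MulAut.mul_apply, hf, hf, MulAut.one_apply]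
    exact congrArg (fun k : MulAut G => k (ph S a)) hαα
  refine ⟨ψ f, hψ f, by rw [← map_mul, hff, map_one], fun a => ⟨f a, hψ' f a, (hf a).symm⟩⟩

/-- **the key lemma** -/
theorem Blk.key_fix (h : Blk X S) {S' : Finset (Fin 12)} (hS : S' ⊆ S) {c : P} (hc : c ∈ alt S')
    (hfix : ∀ f : P, f * c = c * f → f * f = 1 → ∀ p ∈ S', f p = p) {α : MulAut G} (hα : α X = X) (hαα : α * α = 1)
    (hY : α (ph S' ⟨c, hc⟩) = ph S' ⟨c, hc⟩) (a : alt S') : α (ph S' a) = ph S' a := by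
  obtain ⟨σ, hσ, hσσ, hb⟩ := h.exists_sigma hα hαα
  have h1 : σ * c = c * σ := by
    obtain ⟨b, hbc, hb'⟩ := hb ⟨c, alt_mono hS hc⟩
    change (b : P) = σ * c * σ⁻¹ at hbc
    have h2 : b = ⟨c, alt_mono hS hc⟩ := by
      apply ph_inj S
      rw [← hb']
      exact hY
    rw [h2] at hbc
    exact (eq_mul_inv_iff_mul_eq.1 hbc).symm
  have h2 := hfix σ h1 hσσ
  obtain ⟨b, hba, hb'⟩ := hb ⟨a, alt_mono hS a.2⟩
  change (b : P) = σ * a * σ⁻¹ at hba
  rw [Perm12.comm_of_fix h2 a.2.2] at hba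
  have h3 : b = ⟨a, alt_mono hS a.2⟩ := Subtype.ext hba
  rw [h3] at hb'
  exact hb'

end blk

/-! ### Standard elements -/

theorem c5_alt : c5 ∈ alt S5 := mem_alt.2 ⟨c5_mem, by decide +kernel⟩
theorem c7_alt : c7 ∈ alt S7 := mem_alt.2 ⟨c7_mem, by decide +kernel⟩
theorem d5_alt : d5 ∈ alt T5 := mem_alt.2 ⟨d5_mem, by decide +kernel⟩
theorem t2_alt5 : t2 ∈ alt S5 := mem_alt.2 ⟨t2_mem, by decide +kernel⟩
theorem t2_alt7 : t2 ∈ alt S7 := mem_alt.2 ⟨t2_mem, by decide +kernel⟩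
/-- `(7 8)(9 10)` -/
def t2' : P := cy [7, 8] * cy [9, 10]
theorem t2'_mem : t2' ∈ alternatingGroup (Fin 12) := by rw [Equiv.Perm.mem_alternatingGroup]; decide +kernel
theorem t2'_alt : t2' ∈ alt T5 := mem_alt.2 ⟨t2'_mem, by decide +kernel⟩
theorem x1_alt : x1 ∈ alt T5 := mem_alt.2 ⟨x1_mem, by decide +kernel⟩

/-- the element of order 5 of `C(X1)` -/
noncomputable def Y5 : G := ph S5 ⟨c5, c5_alt⟩
/-- the element of order 5 of `C(X7)` -/
noncomputable def Z5 : G := ph T5 ⟨d5, d5_alt⟩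

theorem X7_eq : X7 = ph S7 ⟨c7, c7_alt⟩ := rfl

theorem order_Y5 : orderOf Y5 = 5 := by
  have : Fact (Nat.Prime 5) := ⟨by norm_num⟩
  unfold Y5
  rw [orderOf_injective _ (ph_inj _)]
  refine orderOf_eq_prime (Subtype.ext ?_) (fun h => ?_)
  · change c5 ^ 5 = 1
    decide +kernel
  · have h2 : c5 = 1 := congrArg Subtype.val h
    exact absurd h2 (by decide +kernel)

theorem order_Z5 : orderOf Z5 = 5 := by
  have : Fact (Nat.Prime 5) := ⟨by norm_num⟩
  unfold Z5
  rw [orderOf_injective _ (ph_inj _)]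
  refine orderOf_eq_prime (Subtype.ext ?_) (fun h => ?_)
  · change d5 ^ 5 = 1
    decide +kernel
  · have h2 : d5 = 1 := congrArg Subtype.val h
    exact absurd h2 (by decide +kernel)

theorem isConj_t5 : IsConj (ph S5 ⟨t2, t2_alt5⟩) (Cfsg.Agent.HN.NormalH.ψ Cfsg.Agent.HN.H0Basic.τ) := isConj_tt
theorem isConj_t7 : IsConj (ph S7 ⟨t2, t2_alt7⟩) (Cfsg.Agent.HN.NormalH.ψ Cfsg.Agent.HN.H0Basic.τ) := isConj_tt

theorem isConj_t' : IsConj (ph T5 ⟨t2', t2'_alt⟩) (Cfsg.Agent.HN.NormalH.ψ Cfsg.Agent.HN.H0Basic.τ) := by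
  refine IsConj.trans ?_ isConj_tt
  have hg : cy [0, 7] * cy [1, 8] * cy [2, 9] * cy [3, 10] ∈ alternatingGroup (Fin 12) := by
    rw [Equiv.Perm.mem_alternatingGroup]; decide +kernel
  refine isConj_iff.2 ⟨Φ ⟨_, hg⟩, ?_⟩
  rw [mul_inv_eq_iff_eq_mul, ph_mk]
  change _ = Φ ⟨t2, t2_mem⟩ * _
  rw [← map_mul, ← map_mul]
  refine congrArg Φ (Subtype.ext ?_)
  change cy [0, 7] * cy [1, 8] * cy [2, 9] * cy [3, 10] * t2' = t2 * (cy [0, 7] * cy [1, 8] * cy [2, 9] * cy [3, 10])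
  decide +kernel

/-! ### Orders -/

theorem card_HN : Nat.card G = 273030912000000 := Cfsg.Agent.KFacts.HN.Classes.card_HN

theorem card_S9 : Nat.card (alt S9) = 181440 := by
  rw [← Nat.card_congr (altEquiv S9).toEquiv]
  have h1 : Nontrivial ↥S9 := ⟨⟨⟨0, by decide⟩, ⟨1, by decide⟩, by decide⟩⟩
  rw [nat_card_alternatingGroup, Nat.card_eq_fintype_card, Fintype.card_coe]
  decide

theorem card_cent_X1 : Nat.card ↥(centralizer ({X1} : Set G)) = 544320 := by
  apply le_antisymm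
  · have h1 : ∀ y : ↥(centralizer ({X1} : Set G)), ∃ p : Fin 3 × alt S9, (y : G) = X1 ^ (p.1 : ℕ) * ph S9 p.2 := by
      intro y
      obtain ⟨i, a, h⟩ := blk1.mem y (mem_centralizer_singleton_iff.1 y.2)
      refine ⟨(⟨i % 3, Nat.mod_lt _ (by norm_num)⟩, a), ?_⟩
      rw [h]
      congr 1
      change X1 ^ i = X1 ^ (i % 3)
      rw [← order_X1, pow_mod_orderOf]
    choose f hf using h1
    have hinj : Function.Injective f := fun a b hab => Subtype.ext (by rw [hf a, hf b, hab])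
    have h := Nat.card_le_card_of_injective f hinj
    rw [Nat.card_prod, card_S9, Nat.card_eq_fintype_card (α := Fin 3), Fintype.card_fin] at h
    exact h
  · exact Nat.le_of_dvd Nat.card_pos (Cfsg.Agent.H187.Ore.HNX1.dvd_card.trans (Subgroup.card_subgroup_dvd_card _))

theorem card_seven {w : G} (hw : orderOf w = 7) : Nat.card (centralizer ({w} : Set G)) = 420 := by
  rw [← Cfsg.Agent.H845.HNSeven.card_cent]
  exact (H502.TO.card_cent_eq (by norm_num) (by rw [card_HN]; norm_num) hw order_X7).symm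

/-! ### Reductions -/

theorem conj_comm {c x y : G} (h : x * y = y * x) : c * x * c⁻¹ * (c * y * c⁻¹) = c * y * c⁻¹ * (c * x * c⁻¹) := by
  calc c * x * c⁻¹ * (c * y * c⁻¹) = c * (x * y) * c⁻¹ := by group
    _ = c * (y * x) * c⁻¹ := by rw [h]
    _ = _ := by group

theorem red {X Y : G} {r : ℕ} (hr : r.Prime) (h2 : ¬ r ^ 2 ∣ Nat.card ↥(centralizer ({X} : Set G))) (hY : orderOf Y = r)
    (hYX : Y * X = X * Y) {y : G} (hy : orderOf y = r) (hyX : y * X = X * y) :
    ∃ c : G, c * X = X * c ∧ Y ∈ zpowers (c * y * c⁻¹) := by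
  obtain ⟨g, hg⟩ := Cfsg.Agent.H845.HNNineteen.exists_conj_mem hr h2
    (x := (⟨y, mem_centralizer_singleton_iff.2 hyX⟩ : ↥(centralizer ({X} : Set G))))
    (z := (⟨Y, mem_centralizer_singleton_iff.2 hYX⟩ : ↥(centralizer ({X} : Set G))))
    (by rw [Subgroup.orderOf_mk, hy]) (by rw [Subgroup.orderOf_mk, hY])
  obtain ⟨k, hk⟩ := mem_zpowers_iff.1 hg
  have h1 : (g : G) * X = X * g := mem_centralizer_singleton_iff.1 g.2
  have h3 : y ^ k = g * Y * (g : G)⁻¹ := congrArg Subtype.val hk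
  refine ⟨(g : G)⁻¹, ?_, mem_zpowers_iff.2 ⟨k, ?_⟩⟩
  · rw [inv_mul_eq_iff_eq_mul, ← mul_assoc, h1, mul_inv_cancel_right]
  · rw [conj_zpow, h3]
    group

theorem comm_of_mem_zpowers {y Y d : G} (h : Y ∈ zpowers y) (hd : d * y = y * d) : d * Y = Y * d := by
  obtain ⟨k, rfl⟩ := mem_zpowers_iff.1 h
  exact ((show Commute d y from hd).zpow_right k).eq

theorem gen_of_zpowers {r : ℕ} (hr : r.Prime) {y Y : G} (hy : orderOf y = r) (hY : orderOf Y = r) (h : Y ∈ zpowers y) :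
    y ∈ zpowers Y := by
  rw [H502.TO.zpowers_eq hr hy hY h]
  exact mem_zpowers y

theorem dvd_cent {x y : G} {r : ℕ} (hy : orderOf y = r) (h : y * x = x * y) :
    r ∣ Nat.card ↥(centralizer ({x} : Set G)) := by
  have h1 := orderOf_dvd_natCard (⟨y, mem_centralizer_singleton_iff.2 h⟩ : ↥(centralizer ({x} : Set G)))
  rwa [Subgroup.orderOf_mk, hy] at h1

theorem order_conj (c x : G) : orderOf (c * x * c⁻¹) = orderOf x := MulEquiv.orderOf_eq (MulAut.conj c) x

/-- `{3, 7}` -/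
theorem red17 {x y : G} (hx : orderOf x = 3) (hy : orderOf y = 7) (hxy : y * x = x * y) :
    ∃ c : G, c * x * c⁻¹ = X1 ∧ X7 ∈ zpowers (c * y * c⁻¹) := by
  obtain ⟨c, hc | hc⟩ := H680.HNF.dich hx
  · have h1 : c * y * c⁻¹ * X1 = X1 * (c * y * c⁻¹) := by rw [← hc]; exact conj_comm hxy
    obtain ⟨d, hd, hd'⟩ := red (X := X1) (Y := X7) (r := 7) (by norm_num) (by rw [card_cent_X1]; norm_num) order_X7
      (comm_of c7_mem x1_mem (by decide +kernel)) (y := c * y * c⁻¹) (by rw [order_conj, hy]) h1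
    refine ⟨d * c, ?_, ?_⟩
    · calc d * c * x * (d * c)⁻¹ = d * (c * x * c⁻¹) * d⁻¹ := by group
        _ = X1 := by rw [hc, hd, mul_inv_cancel_right]
    · have e : d * c * y * (d * c)⁻¹ = d * (c * y * c⁻¹) * d⁻¹ := by group
      rw [e]; exact hd'
  · exfalso
    have h1 : c * y * c⁻¹ * X3 = X3 * (c * y * c⁻¹) := by rw [← hc]; exact conj_comm hxy
    have h2 := dvd_cent (r := 7) (by rw [order_conj, hy]) h1
    rw [H680.HNF.card_cent_X3] at h2
    norm_num at h2

/-- `{3, 5}` -/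
theorem red15 {x y : G} (hx : ∃ c : G, c * x * c⁻¹ = X1) (hy : orderOf y = 5) (hxy : y * x = x * y) :
    ∃ c : G, c * x * c⁻¹ = X1 ∧ Y5 ∈ zpowers (c * y * c⁻¹) := by
  obtain ⟨c, hc⟩ := hx
  have h1 : c * y * c⁻¹ * X1 = X1 * (c * y * c⁻¹) := by rw [← hc]; exact conj_comm hxy
  obtain ⟨d, hd, hd'⟩ := red (X := X1) (Y := Y5) (r := 5) (by norm_num) (by rw [card_cent_X1]; norm_num) order_Y5
    (comm_of c5_mem x1_mem (by decide +kernel)) (y := c * y * c⁻¹) (by rw [order_conj, hy]) h1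
  refine ⟨d * c, ?_, ?_⟩
  · calc d * c * x * (d * c)⁻¹ = d * (c * x * c⁻¹) * d⁻¹ := by group
      _ = X1 := by rw [hc, hd, mul_inv_cancel_right]
  · have e : d * c * y * (d * c)⁻¹ = d * (c * y * c⁻¹) * d⁻¹ := by group
    rw [e]; exact hd'

theorem red7 {x : G} (hx : orderOf x = 7) : ∃ c : G, X7 ∈ zpowers (c * x * c⁻¹) := by
  obtain ⟨g, hg⟩ := Cfsg.Agent.H845.HNNineteen.exists_conj_mem (r := 7) (by norm_num) (by rw [card_HN]; norm_num)
    (x := x) (z := X7) hx order_X7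
  obtain ⟨k, hk⟩ := mem_zpowers_iff.1 hg
  refine ⟨g⁻¹, mem_zpowers_iff.2 ⟨k, ?_⟩⟩
  rw [conj_zpow, hk]
  group

/-- `{7, 5}` -/
theorem red75 {x y : G} (hx : orderOf x = 7) (hy : orderOf y = 5) (hxy : y * x = x * y) :
    ∃ c : G, X7 ∈ zpowers (c * x * c⁻¹) ∧ Z5 ∈ zpowers (c * y * c⁻¹) := by
  obtain ⟨c, hc⟩ := red7 hx
  have h1 : c * y * c⁻¹ * X7 = X7 * (c * y * c⁻¹) := comm_of_mem_zpowers hc (conj_comm hxy)
  obtain ⟨d, hd, hd'⟩ := red (X := X7) (Y := Z5) (r := 5) (by norm_num)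
    (by rw [Cfsg.Agent.H845.HNSeven.card_cent]; norm_num) order_Z5 (blk7.comm _) (y := c * y * c⁻¹)
    (by rw [order_conj, hy]) h1
  refine ⟨d * c, ?_, ?_⟩
  · obtain ⟨k, hk⟩ := mem_zpowers_iff.1 hc
    refine mem_zpowers_iff.2 ⟨k, ?_⟩
    have e : d * c * x * (d * c)⁻¹ = d * (c * x * c⁻¹) * d⁻¹ := by group
    rw [e, conj_zpow, hk, hd, mul_inv_cancel_right]
  · have e : d * c * y * (d * c)⁻¹ = d * (c * y * c⁻¹) * d⁻¹ := by group
    rw [e]; exact hd'

/-! ### `{3, 5}`, second class -/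

theorem even35 {x y : G} (hx : ∃ c : G, c * x * c⁻¹ = X3) (hy : orderOf y = 5) (hxy : y * x = x * y) :
    ∃ u : G, orderOf u = 2 ∧ u * x = x * u ∧ u * y = y * u := by
  obtain ⟨c, hc⟩ := hx
  have h1 : c * y * c⁻¹ * X3 = X3 * (c * y * c⁻¹) := by rw [← hc]; exact conj_comm hxy
  have : Fact (Nat.Prime 5) := ⟨by norm_num⟩
  obtain ⟨Y, hY⟩ := exists_prime_orderOf_dvd_card' (G := ↥H680.HNF.DG) 5 (by rw [H680.HNF.card_DG]; norm_num)
  have hYo : orderOf (Y : G) = 5 := by rw [Subgroup.orderOf_coe, hY]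
  have hYX : (Y : G) * X3 = X3 * Y := mem_centralizer_singleton_iff.1 Y.2.1
  have hYS : (Y : G) * S3 = S3 * Y := mem_centralizer_singleton_iff.1 Y.2.2
  obtain ⟨d, hd, hd'⟩ := red (X := X3) (Y := (Y : G)) (r := 5) (by norm_num)
    (by rw [H680.HNF.card_cent_X3]; norm_num) hYo hYX (y := c * y * c⁻¹) (by rw [order_conj, hy]) h1
  have h2 := gen_of_zpowers (by norm_num : Nat.Prime 5) (by rw [order_conj, order_conj, hy]) hYo hd'
  have h3 : S3 * (d * (c * y * c⁻¹) * d⁻¹) = d * (c * y * c⁻¹) * d⁻¹ * S3 := comm_of_mem_zpowers h2 hYS.symm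
  have h4 : S3 * X3 = X3 * S3 := comm_of s3_mem x3_mem (by decide +kernel)
  refine ⟨(d * c)⁻¹ * S3 * ((d * c)⁻¹)⁻¹, by rw [order_conj, order_S3], ?_, ?_⟩
  · have e : x = (d * c)⁻¹ * X3 * ((d * c)⁻¹)⁻¹ := by
      calc x = (d * c)⁻¹ * (d * (c * x * c⁻¹) * d⁻¹) * ((d * c)⁻¹)⁻¹ := by group
        _ = _ := by rw [hc, hd, mul_inv_cancel_right]
    rw [e]
    exact conj_comm h4
  · have e : y = (d * c)⁻¹ * (d * (c * y * c⁻¹) * d⁻¹) * ((d * c)⁻¹)⁻¹ := by group
    rw [e]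
    exact conj_comm h3

/-! ### No elements of order 105 -/

theorem sq_of_two {h : P} (hh : ∀ p, p ≠ 7 → p ≠ 8 → h p = p) : h * h = 1 := by
  have h78 : ∀ p, (p = 7 ∨ p = 8) → (h p = 7 ∨ h p = 8) := by
    intro p hp
    by_contra hno
    push Not at hno
    have h1 := h.injective (hh _ hno.1 hno.2)
    rw [h1] at hno
    rcases hp with rfl | rfl
    · exact hno.1 rfl
    · exact hno.2 rfl
  ext p
  by_cases h7 : p = 7
  · subst h7
    rcases h78 7 (Or.inl rfl) with h1 | h1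
    · rw [Equiv.Perm.mul_apply, h1, h1]; rfl
    · rcases h78 8 (Or.inr rfl) with h2 | h2
      · rw [Equiv.Perm.mul_apply, h1, h2]; rfl
      · have h3 := h.injective (h1.trans h2.symm)
        exact absurd h3 (by decide)
  · by_cases h8 : p = 8
    · subst h8
      rcases h78 8 (Or.inr rfl) with h1 | h1
      · rcases h78 7 (Or.inl rfl) with h2 | h2
        · have h3 := h.injective (h1.trans h2.symm)
          exact absurd h3 (by decide)
        · rw [Equiv.Perm.mul_apply, h1, h2]; rfl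
      · rw [Equiv.Perm.mul_apply, h1, h1]; rfl
    · rw [Equiv.Perm.mul_apply, hh p h7 h8, hh p h7 h8]; rfl

theorem out_T5 : ∀ p, p ∈ T5 → p ∈ S9 → p = 7 ∨ p = 8 := by decide

theorem no_105 {x y z : G} (hx : orderOf x = 3) (hy : orderOf y = 5) (hz : orderOf z = 7) (hxy : y * x = x * y)
    (hxz : z * x = x * z) (hyz : y * z = z * y) : False := by
  obtain ⟨c, hc, hc'⟩ := red17 hx hz hxz
  have h1 : c * y * c⁻¹ * X1 = X1 * (c * y * c⁻¹) := by rw [← hc]; exact conj_comm hxy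
  have h2 : c * y * c⁻¹ * X7 = X7 * (c * y * c⁻¹) := comm_of_mem_zpowers hc' (conj_comm hyz)
  obtain ⟨f, hf⟩ := Cfsg.Agent.H187.Ore.HNX1.exists_perm h1
  have ho : orderOf f = 5 := by
    rw [← orderOf_injective Φ Φ_inj, hf, order_conj, hy]
  rw [← hf] at h1 h2
  have e1 : f * ⟨x1, x1_mem⟩ = ⟨x1, x1_mem⟩ * f := by
    apply Φ_inj
    rw [map_mul, map_mul]
    exact h1
  have e2 : f * ⟨c7, c7_mem⟩ = ⟨c7, c7_mem⟩ * f := by
    apply Φ_inj
    rw [map_mul, map_mul]
    exact h2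
  have e1' : (f : P) * x1 = x1 * f := congrArg Subtype.val e1
  have e2' : (f : P) * c7 = c7 * f := congrArg Subtype.val e2
  obtain ⟨i, g, hg, hfg⟩ := cent_c7 e2'
  have hcx : Commute c7 x1 := by
    change c7 * x1 = x1 * c7
    decide +kernel
  have hgx : g * x1 = x1 * g := by
    have h3 : g = (c7 ^ i)⁻¹ * f := by rw [hfg]; group
    rw [h3]
    exact (((hcx.pow_left i).inv_left).mul_left (show Commute (f : P) x1 from e1')).eq
  obtain ⟨k, h, hh, hgh⟩ := cent_x1 hgx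
  have hh' : ∀ p, p ≠ 7 → p ≠ 8 → h p = p := by
    intro p h7 h8
    by_cases hp : p ∈ S9
    · have hpT : p ∉ T5 := fun h => by
        rcases out_T5 p h hp with h | h
        · exact h7 h
        · exact h8 h
      have h4 := hg p hpT
      rw [hgh, Equiv.Perm.mul_apply] at h4
      have h5 : (x1 ^ k) p = p := by
        have h6 : ∀ n : ℕ, (x1 ^ n) p = p := by
          intro n
          induction n with
          | zero => rfl
          | succ n ih => rw [pow_succ, Equiv.Perm.mul_apply, (x1_S p).1 hp, ih]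
        exact h6 k
      exact (x1 ^ k).injective (h4.trans h5.symm)
    · exact hh p hp
  have hsq := sq_of_two hh'
  have hc7g : Commute (c7 ^ i) g := by
    refine Commute.pow_left ?_ i
    exact (mul_inv_eq_iff_eq_mul.1 (Perm12.comm_of_fix (S := T5) (fun p hp => (c7_S p).1 hp) hg))
  have hx1h : Commute (x1 ^ k) h := by
    refine Commute.pow_left ?_ k
    exact (mul_inv_eq_iff_eq_mul.1 (Perm12.comm_of_fix (S := S9) (fun p hp => (x1_S p).1 hp) hh))
  have h42 : (f : P) ^ 42 = 1 := by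
    rw [hfg, hc7g.mul_pow, hgh, hx1h.mul_pow, ← pow_mul, ← pow_mul]
    have e7 : c7 ^ 7 = 1 := by decide +kernel
    have e3 : x1 ^ 3 = 1 := by decide +kernel
    have e2 : h ^ 2 = 1 := by rw [pow_two]; exact hsq
    have p7 : c7 ^ (i * 42) = 1 := by rw [show i * 42 = 7 * (6 * i) by ring, pow_mul, e7, one_pow]
    have p3 : x1 ^ (k * 42) = 1 := by rw [show k * 42 = 3 * (14 * k) by ring, pow_mul, e3, one_pow]
    have p2 : h ^ 42 = 1 := by rw [show 42 = 2 * 21 by norm_num, pow_mul, e2, one_pow]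
    rw [p7, p3, p2, mul_one, mul_one]
  have h5 : f ^ 42 = 1 := Subtype.ext h42
  have h6 := orderOf_dvd_of_pow_eq_one h5
  rw [ho] at h6
  norm_num at h6

/-! ### The normalizer of a Sylow 19-subgroup -/

theorem norm19 {x : G} (hx : orderOf x = 19) : Nat.card (normalizer ((zpowers x : Subgroup G) : Set G)) = 171 := by
  obtain ⟨y, e, n, hy, he18, he1, hn, hN, hG, h19⟩ := H729.PairBase.exists_data (S := G) (r := 19) (by norm_num)
    (by rw [card_HN]; norm_num) (by rw [card_HN]; norm_num) (by rw [card_HN]; norm_num)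
  rw [H502.TO.card_norm_eq (by norm_num) (by rw [card_HN]; norm_num) hx hy] at hN
  rw [hN, Cfsg.Agent.H187.Ore.HNX1.card_nineteen hy]
  rw [Cfsg.Agent.H187.Ore.HNX1.card_nineteen hy, card_HN] at hG
  have h1 : e ∈ Nat.divisors 18 := Nat.mem_divisors.2 ⟨he18, by norm_num⟩
  have h2 : Nat.divisors 18 = {1, 2, 3, 6, 9, 18} := by decide +kernel
  rw [h2] at h1
  simp only [Finset.mem_insert, Finset.mem_singleton] at h1
  rcases h1 with rfl | rfl | rfl | rfl | rfl | rfl <;> omega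

end Cfsg.Agent.H680.RG.HN.Cent
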