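import Cfsg.Agent.H680.RG.HN.TwoB
import Cfsg.Agent.H680.RG.HN.Cent

/-!
# S3509, row `HN`: the covers (helper680)

* `in37`, `in57`, `in35` : covers by two elements of odd order;
* `out37`, `out57`, `out35` : covers by an outer involution and two elements of odd order;
* `out_one` : covers by an outer involution and an element of order 3, 5, 7 or 11;
* `out19` : covers by an outer involution and an element of order 19.
-/

set_option autoImplicit false
set_option linter.unusedSectionVars false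
set_option linter.unusedVariables false

namespace Cfsg.Agent.H680.RG.HN

open Subgroup Cfsg MulAction
open Cfsg.Agent.H106.RC Cfsg.Agent.H867.RC
open Cfsg.Agent.UAlt (alt)
open Cfsg.Agent.H680.RG.HN.Perm12 (P S9 S7 S5 T5 c5 c7 d5)
open Cfsg.Agent.H680.RG.HN.Cent
open Cfsg.Agent.CpAutHN.Pairs (X1 X3 S3 tt order_X1 order_X3 order_S3 order_tt)
open Cfsg.Agent.CpAutHN.Alt (t2)
open Cfsg.Agent.H845.HNSeven (X7 order_X7)

attribute [local instance] Cfsg.Agent.H569.HNThree.finite_G

/-! ### Involutions fixed by an involutory automorphism -/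

theorem fix_inv {α : MulAut HNG} (hα : α * α = 1) {x y : HNG} (hx : α x = x) (hy : α y = y)
    (h : ∃ u : HNG, orderOf u = 2 ∧ u * x = x * u ∧ u * y = y * u) :
    ∃ u : HNG, orderOf u = 2 ∧ α u = u ∧ u * x = x * u ∧ u * y = y * u := by
  set D : Subgroup HNG := centralizer ({x} : Set HNG) ⊓ centralizer ({y} : Set HNG) with hD
  have hmap : ∀ d : HNG, d ∈ D → α d ∈ D := by
    rintro d ⟨h1, h2⟩
    replace h1 := mem_centralizer_singleton_iff.1 h1
    replace h2 := mem_centralizer_singleton_iff.1 h2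
    refine ⟨mem_centralizer_singleton_iff.2 ?_, mem_centralizer_singleton_iff.2 ?_⟩
    · calc α d * x = α (d * x) := by rw [map_mul, hx]
        _ = x * α d := by rw [h1, map_mul, hx]
    · calc α d * y = α (d * y) := by rw [map_mul, hy]
        _ = y * α d := by rw [h2, map_mul, hy]
  let f : D →* D :=
    { toFun := fun d => ⟨α d.1, hmap d.1 d.2⟩
      map_one' := Subtype.ext (map_one α)
      map_mul' := fun a b => Subtype.ext (map_mul α a.1 b.1) }
  have hff : ∀ d, f (f d) = d := fun d => Subtype.ext (congrArg (fun k : MulAut HNG => k d.1) hα)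
  let T : MulAut D :=
    { f with
      invFun := f
      left_inv := hff
      right_inv := hff }
  obtain ⟨u, hu, hux, huy⟩ := h
  have he : Even (Nat.card D) := by
    have huD : u ∈ D := ⟨mem_centralizer_singleton_iff.2 hux, mem_centralizer_singleton_iff.2 huy⟩
    have h1 := orderOf_dvd_natCard (⟨u, huD⟩ : D)
    rw [Subgroup.orderOf_mk, hu] at h1
    exact even_iff_two_dvd.2 h1
  obtain ⟨w, hw1, hw2, hw3⟩ := Cfsg.Agent.H291.Parity.exists_fixed_invo T (by ext d; exact congrArg Subtype.val (hff d)) he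
  refine ⟨w.1, orderOf_eq_prime ?_ ?_, congrArg Subtype.val hw3, mem_centralizer_singleton_iff.1 w.2.1,
    mem_centralizer_singleton_iff.1 w.2.2⟩
  · rw [pow_two]
    exact congrArg Subtype.val hw2
  · exact fun h => hw1 (Subtype.ext h)

/-! ### Replacement -/

section mv

variable {G Ω : Type*} [Group G] [MulAction G Ω]

theorem mv2 {t x y s : G} (hs : s ∈ closure {z | ∃ c : G, (c * t = t * c ∧ c * x = x * c) ∧ z = c * y * c⁻¹})
    (hc : ∀ ω : Ω, t • ω = ω ∨ x • ω = ω ∨ y • ω = ω) : ∀ ω : Ω, t • ω = ω ∨ x • ω = ω ∨ s • ω = ω := by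
  intro ω
  by_cases ht : t • ω = ω
  · exact Or.inl ht
  by_cases hx : x • ω = ω
  · exact Or.inr (Or.inl hx)
  refine Or.inr (Or.inr ?_)
  have h1 : closure {z | ∃ c : G, (c * t = t * c ∧ c * x = x * c) ∧ z = c * y * c⁻¹} ≤ stabilizer G ω := by
    rw [closure_le]
    rintro _ ⟨c, ⟨hct, hcx⟩, rfl⟩
    have h2 : ∀ b : G, c * b = b * c → b • ω ≠ ω → b • c⁻¹ • ω ≠ c⁻¹ • ω := by
      intro b hcb hb h3
      apply hb
      rw [smul_smul, ← (show c⁻¹ * b = b * c⁻¹ by
        rw [inv_mul_eq_iff_eq_mul, ← mul_assoc, hcb, mul_inv_cancel_right]), mul_smul] at h3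
      exact smul_left_cancel _ h3
    have h3 := ((hc (c⁻¹ • ω)).resolve_left (h2 t hct ht)).resolve_left (h2 x hcx hx)
    change (c * y * c⁻¹) • ω = ω
    rw [mul_smul, mul_smul, h3, smul_inv_smul]
  exact h1 hs

theorem mv1 {x y s : G} (hs : s ∈ closure {z | ∃ c : G, (c * 1 = 1 * c ∧ c * x = x * c) ∧ z = c * y * c⁻¹})
    (hc : ∀ ω : Ω, x • ω = ω ∨ y • ω = ω) : ∀ ω : Ω, x • ω = ω ∨ s • ω = ω := by
  refine pair_mv hc ?_
  refine closure_mono ?_ hs
  rintro _ ⟨c, ⟨-, h2⟩, rfl⟩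
  exact ⟨c, h2, rfl⟩

theorem smul_of_zpowers {x y : G} (h : y ∈ zpowers x) {ω : Ω} (hx : x • ω = ω) : y • ω = ω := by
  have h1 : zpowers x ≤ stabilizer G ω := zpowers_le.2 hx
  exact h1 h

theorem comm_zpowers {x y d : G} (h : y ∈ zpowers x) (hd : d * x = x * d) : d * y = y * d := by
  obtain ⟨k, rfl⟩ := mem_zpowers_iff.1 h
  exact ((show Commute d x from hd).zpow_right k).eq

theorem pf_pair {x y : G} {p q : ℕ} (hp : p.Prime) (hq : q.Prime) (hpq : p ≠ q) (hxp : x ^ p = 1) (hx1 : x ≠ 1)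
    (hyq : y ^ q = 1) (hy1 : y ≠ 1) (hxy : x * y = y * x) :
    PF (fun b : Bool => cond b x y) (fun b => cond b p q) where
  prime b := by cases b; exacts [hq, hp]
  inj a b h := by
    cases a <;> cases b <;> simp_all
  pow b := by cases b; exacts [hyq, hxp]
  ne b := by cases b; exacts [hy1, hx1]
  comm a b := by cases a <;> cases b <;> first | rfl | exact hxy | exact hxy.symm

theorem pf_unit {x : G} {p : ℕ} (hp : p.Prime) (hxp : x ^ p = 1) (hx1 : x ≠ 1) :
    PF (fun _ : Unit => x) (fun _ => p) where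
  prime _ := hp
  inj _ _ _ := rfl
  pow _ := hxp
  ne _ := hx1
  comm _ _ := rfl

end mv

section std

variable {G Ω : Type} [Group G] [Finite G] [MulAction G Ω] {N : Subgroup G} [hN : N.Normal]

theorem pow_j (e : N ≃* HNG) {x : HNG} {p : ℕ} (hx : orderOf x = p) : j e x ^ p = 1 := by
  rw [← map_pow, ← hx, pow_orderOf_eq_one, map_one]

theorem ne_j (e : N ≃* HNG) {x : HNG} {p : ℕ} (hp : p ≠ 1) (hx : orderOf x = p) : j e x ≠ 1 := by
  intro h
  have h1 : x = 1 := j_inj e (h.trans (map_one _).symm)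
  rw [h1, orderOf_one] at hx
  exact hp hx.symm

theorem comm_j (e : N ≃* HNG) {x y : HNG} (h : x * y = y * x) : j e x * j e y = j e y * j e x := by
  rw [← map_mul, ← map_mul, h]

theorem comm_of_j (e : N ≃* HNG) {x y : HNG} (h : j e x * j e y = j e y * j e x) : x * y = y * x := by
  apply j_inj e
  rw [map_mul, map_mul, h]

/-- the standard configuration -/
structure Std (X : HNG) (S S' : Finset (Fin 12)) (c : P) (hc : c ∈ alt S') (s : alt S') : Prop where
  blk : Blk X S
  sub : S' ⊆ S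
  five : 5 ≤ S'.card
  ne : c ≠ 1
  fix : ∀ f : P, f * c = c * f → f * f = 1 → ∀ p ∈ S', f p = p
  conj : IsConj (ph S' s) (Cfsg.Agent.HN.NormalH.ψ Cfsg.Agent.HN.H0Basic.τ)

theorem std15 : Std X1 S9 S5 c5 c5_alt ⟨t2, t2_alt5⟩ where
  blk := blk1
  sub := by decide
  five := by decide
  ne := by decide +kernel
  fix f h1 h2 := Perm12.fix_c5 h1 h2
  conj := isConj_t5

theorem std17 : Std X1 S9 S7 c7 c7_alt ⟨t2, t2_alt7⟩ where
  blk := blk1
  sub := by decide
  five := by decide
  ne := by decide +kernel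
  fix f h1 h2 := Perm12.fix_c7 h1 h2
  conj := isConj_t7

theorem std75 : Std X7 T5 T5 d5 d5_alt ⟨t2', t2'_alt⟩ where
  blk := blk7
  sub := by decide
  five := by decide
  ne := by decide +kernel
  fix f h1 h2 := Perm12.fix_d5 h1 h2
  conj := isConj_t'

variable {X : HNG} {S S' : Finset (Fin 12)} {c : P} {hcS : c ∈ alt S'} {s : alt S'}

theorem Std.mem_clos (h : Std X S S' c hcS s) (e : N ≃* HNG) {t : G} (htt : t * t = 1)
    (htX : t * j e X = j e X * t) (htY : t * j e (ph S' ⟨c, hcS⟩) = j e (ph S' ⟨c, hcS⟩) * t) :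
    j e (ph S' s) ∈ closure {z | ∃ g : G, (g * t = t * g ∧ g * j e X = j e X * g) ∧
      z = g * j e (ph S' ⟨c, hcS⟩) * g⁻¹} ∧ t * j e (ph S' s) = j e (ph S' s) * t ∧
      j e X * j e (ph S' s) = j e (ph S' s) * j e X := by
  have hαα : al e t * al e t = 1 := by rw [← map_mul, htt, map_one]
  have key : ∀ a : alt S', t * j e (ph S' a) = j e (ph S' a) * t := by
    intro a
    apply (comm_iff e).2
    exact h.blk.key_fix h.sub hcS h.fix ((comm_iff e).1 htX) hαα ((comm_iff e).1 htY) a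
  have keyX : ∀ a : alt S', j e (ph S' a) * j e X = j e X * j e (ph S' a) := by
    intro a
    rw [← ph_mono h.sub a]
    exact comm_j e (h.blk.comm _)
  refine ⟨?_, key s, (keyX s).symm⟩
  have h1 := Perm12.mem_closure_alt h.five (f := ⟨c, hcS⟩) (fun h' => h.ne (congrArg Subtype.val h')) s
  have h2 : j e (ph S' s) ∈ (closure {z | ∃ a : alt S', z = a * ⟨c, hcS⟩ * a⁻¹}).map ((j e).comp (ph S')) :=
    ⟨s, h1, rfl⟩
  rw [MonoidHom.map_closure] at h2
  refine closure_mono ?_ h2
  rintro _ ⟨_, ⟨a, rfl⟩, rfl⟩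
  refine ⟨j e (ph S' a), ⟨(key a).symm, keyX a⟩, ?_⟩
  rw [map_mul, map_mul, map_inv]
  rfl

theorem Std.dead_out [Nonempty Ω] (h : Std X S S' c hcS s) (hRC : RC Cfsg.Spor.HS) (hE : Env G Ω N) (e : N ≃* HNG)
    {p : ℕ} (hp : p.Prime) (hp2 : p ≠ 2) (hX : orderOf X = p) {t : G} (ht : t ∉ N) (ht2 : t ^ 2 = 1)
    (htX : t * j e X = j e X * t) (htY : t * j e (ph S' ⟨c, hcS⟩) = j e (ph S' ⟨c, hcS⟩) * t)
    (hc : ∀ ω : Ω, t • ω = ω ∨ j e X • ω = ω ∨ j e (ph S' ⟨c, hcS⟩) • ω = ω) : False := by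
  obtain ⟨h1, h2, h3⟩ := h.mem_clos e (by rw [← pow_two, ht2]) htX htY
  have h4 := mv2 h1 hc
  refine rule2A hRC hE e (pf_two ht2 (ne_one_of ht) hp hp2 (pow_j e hX) (ne_j e hp.one_lt.ne' hX) htX.symm) h.conj
    ?_ fun ω => ?_
  · intro b; cases b; exacts [h3, h2]
  · rcases h4 ω with h | h | h
    · exact Or.inl ⟨true, h⟩
    · exact Or.inl ⟨false, h⟩
    · exact Or.inr h

theorem Std.dead_in [Nonempty Ω] (h : Std X S S' c hcS s) (hRC : RC Cfsg.Spor.HS) (hE : Env G Ω N) (e : N ≃* HNG)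
    {p : ℕ} (hp : p.Prime) (hX : orderOf X = p)
    (hc : ∀ ω : Ω, j e X • ω = ω ∨ j e (ph S' ⟨c, hcS⟩) • ω = ω) : False := by
  obtain ⟨h1, h2, h3⟩ := h.mem_clos e (t := 1) (by rw [mul_one]) (by rw [one_mul, mul_one]) (by rw [one_mul, mul_one])
  have h4 := mv1 h1 hc
  refine rule2A hRC hE e (pf_unit hp (pow_j e hX) (ne_j e hp.one_lt.ne' hX)) h.conj (fun _ => h3) fun ω => ?_
  exact (h4 ω).imp (fun h => ⟨(), h⟩) id

/-! ### The cases -/

theorem mem_tw (e : N ≃* HNG) {X x c : HNG} (h : X ∈ zpowers (c * x * c⁻¹)) : j (tw e c) X ∈ zpowers (j e x) := by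
  obtain ⟨k, rfl⟩ := mem_zpowers_iff.1 h
  refine mem_zpowers_iff.2 ⟨k, ?_⟩
  rw [j_tw, conj_zpow, ← map_zpow]
  congr 1
  group

theorem mem_tw' (e : N ≃* HNG) {X x c : HNG} (h : c * x * c⁻¹ = X) : j (tw e c) X ∈ zpowers (j e x) :=
  mem_tw e (by rw [h]; exact mem_zpowers X)

variable [Nonempty Ω] (hRC : RC Cfsg.Spor.HS) (hE : Env G Ω N) (e : N ≃* HNG)

include hRC hE

theorem in37 {x y : HNG} (hx : orderOf x = 3) (hy : orderOf y = 7) (hxy : y * x = x * y)
    (hc : ∀ ω : Ω, j e x • ω = ω ∨ j e y • ω = ω) : False := by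
  obtain ⟨c, h1, h2⟩ := red17 hx hy hxy
  exact std17.dead_in hRC hE (tw e c) Nat.prime_three order_X1 fun ω =>
    (hc ω).imp (smul_of_zpowers (mem_tw' e h1)) (smul_of_zpowers (mem_tw e h2))

theorem in57 {x y : HNG} (hx : orderOf x = 5) (hy : orderOf y = 7) (hxy : x * y = y * x)
    (hc : ∀ ω : Ω, j e x • ω = ω ∨ j e y • ω = ω) : False := by
  obtain ⟨c, h1, h2⟩ := red75 hy hx hxy
  exact std75.dead_in hRC hE (tw e c) (by norm_num) order_X7 fun ω =>
    (hc ω).symm.imp (smul_of_zpowers (mem_tw e h1)) (smul_of_zpowers (mem_tw e h2))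

theorem in35 {x y : HNG} (hx : orderOf x = 3) (hy : orderOf y = 5) (hxy : y * x = x * y)
    (hc : ∀ ω : Ω, j e x • ω = ω ∨ j e y • ω = ω) : False := by
  obtain ⟨c, h | h⟩ := H680.HNF.dich hx
  · obtain ⟨c, h1, h2⟩ := red15 ⟨c, h⟩ hy hxy
    exact std15.dead_in hRC hE (tw e c) Nat.prime_three order_X1 fun ω =>
      (hc ω).imp (smul_of_zpowers (mem_tw' e h1)) (smul_of_zpowers (mem_tw e h2))
  · obtain ⟨u, hu, hux, huy⟩ := even35 ⟨c, h⟩ hy hxy
    refine ruleB hRC hE e (pf_pair Nat.prime_three Nat.prime_five (by norm_num) (pow_j e hx) (ne_j e (by norm_num) hx)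
      (pow_j e hy) (ne_j e (by norm_num) hy) (comm_j e hxy.symm)) (fun ω => ?_) hu ?_ ?_
    · rcases hc ω with h | h
      · exact ⟨true, h⟩
      · exact ⟨false, h⟩
    · intro b; cases b; exacts [comm_j e huy.symm, comm_j e hux.symm]
    · intro b h; cases b <;> norm_num at h

variable {t : G} (ht : t ∉ N) (ht2 : t ^ 2 = 1)

include ht ht2

theorem out37 {x y : HNG} (hx : orderOf x = 3) (hy : orderOf y = 7) (hxy : y * x = x * y)
    (htx : t * j e x = j e x * t) (hty : t * j e y = j e y * t)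
    (hc : ∀ ω : Ω, t • ω = ω ∨ j e x • ω = ω ∨ j e y • ω = ω) : False := by
  obtain ⟨c, h1, h2⟩ := red17 hx hy hxy
  exact std17.dead_out hRC hE (tw e c) Nat.prime_three (by norm_num) order_X1 ht ht2
    (comm_zpowers (mem_tw' e h1) htx) (comm_zpowers (mem_tw e h2) hty) fun ω =>
    (hc ω).imp id (Or.imp (smul_of_zpowers (mem_tw' e h1)) (smul_of_zpowers (mem_tw e h2)))

theorem out57 {x y : HNG} (hx : orderOf x = 5) (hy : orderOf y = 7) (hxy : x * y = y * x)
    (htx : t * j e x = j e x * t) (hty : t * j e y = j e y * t)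
    (hc : ∀ ω : Ω, t • ω = ω ∨ j e x • ω = ω ∨ j e y • ω = ω) : False := by
  obtain ⟨c, h1, h2⟩ := red75 hy hx hxy
  exact std75.dead_out hRC hE (tw e c) (by norm_num) (by norm_num) order_X7 ht ht2
    (comm_zpowers (mem_tw e h1) hty) (comm_zpowers (mem_tw e h2) htx) fun ω =>
    (hc ω).imp id fun h => h.symm.imp (smul_of_zpowers (mem_tw e h1)) (smul_of_zpowers (mem_tw e h2))

theorem out35 {x y : HNG} (hx : orderOf x = 3) (hy : orderOf y = 5) (hxy : y * x = x * y)
    (htx : t * j e x = j e x * t) (hty : t * j e y = j e y * t)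
    (hc : ∀ ω : Ω, t • ω = ω ∨ j e x • ω = ω ∨ j e y • ω = ω) : False := by
  obtain ⟨c, h | h⟩ := H680.HNF.dich hx
  · obtain ⟨c, h1, h2⟩ := red15 ⟨c, h⟩ hy hxy
    exact std15.dead_out hRC hE (tw e c) Nat.prime_three (by norm_num) order_X1 ht ht2
      (comm_zpowers (mem_tw' e h1) htx) (comm_zpowers (mem_tw e h2) hty) fun ω =>
      (hc ω).imp id (Or.imp (smul_of_zpowers (mem_tw' e h1)) (smul_of_zpowers (mem_tw e h2)))
  · have hαα : al e t * al e t = 1 := by rw [← map_mul, ← pow_two, ht2, map_one]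
    obtain ⟨u, hu, htu, hux, huy⟩ := fix_inv hαα ((comm_iff e).1 htx) ((comm_iff e).1 hty) (even35 ⟨c, h⟩ hy hxy)
    refine rule5 hRC hE e ht ht2 htx.symm hty.symm (comm_j e hxy.symm) rfl (pow_j e hx) (ne_j e (by norm_num) hx)
      (pow_j e hy) (ne_j e (by norm_num) hy) hu ((comm_iff e).2 htu) (comm_j e hux.symm) (comm_j e huy.symm)
      (fun _ => ?_) hc
    have h1 := H502.TO.card_cent_conj c x
    rw [h] at h1
    have h2 := H680.HNF.card_cent_X3
    rw [h1] at h2
    rw [h2]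
    norm_num

/-- **an outer involution and an element of odd prime order with a centralizer of even order** -/
theorem out_one {x : HNG} {p : ℕ} (hp : p.Prime) (hp2 : p ≠ 2) (hx : orderOf x = p)
    (hev : Even (Nat.card ↥(centralizer ({x} : Set HNG)))) (htx : t * j e x = j e x * t)
    (hc : ∀ ω : Ω, t • ω = ω ∨ j e x • ω = ω) : False := by
  have hαα : al e t * al e t = 1 := by rw [← map_mul, ← pow_two, ht2, map_one]
  obtain ⟨u, hu, htu, hux⟩ := Cfsg.Agent.H291.Parity.exists_comm_invo (al e t) hαα ((comm_iff e).1 htx) hev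
  exact rule4 hRC hE e ht ht2 htx.symm hp hp2 (pow_j e hx) (ne_j e hp.one_lt.ne' hx) hu ((comm_iff e).2 htu)
    (comm_j e hux.symm) hc

end std

/-! ### Even centralizers -/

theorem even_of {x : HNG} (h : ∃ u : HNG, orderOf u = 2 ∧ u * x = x * u) :
    Even (Nat.card ↥(centralizer ({x} : Set HNG))) := by
  obtain ⟨u, hu, hux⟩ := h
  exact even_iff_two_dvd.2 (dvd_cent hu hux)

theorem even3 {x : HNG} (hx : orderOf x = 3) : Even (Nat.card ↥(centralizer ({x} : Set HNG))) := by
  obtain ⟨c, h | h⟩ := H680.HNF.dich hx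
  · have h1 := H502.TO.card_cent_conj c x
    rw [h] at h1
    have h2 := Cent.card_cent_X1
    rw [h1] at h2
    rw [h2]
    decide
  · have h1 := H502.TO.card_cent_conj c x
    rw [h] at h1
    have h2 := H680.HNF.card_cent_X3
    rw [h1] at h2
    rw [h2]
    decide

theorem even5 {x : HNG} (hx : orderOf x = 5) : Even (Nat.card ↥(centralizer ({x} : Set HNG))) :=
  even_of (Cfsg.Agent.H705.OreB.HNFive.hn_five x hx)

theorem even7 {x : HNG} (hx : orderOf x = 7) : Even (Nat.card ↥(centralizer ({x} : Set HNG))) := by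
  rw [card_seven hx]; decide

theorem even11 {x : HNG} (hx : orderOf x = 11) : Even (Nat.card ↥(centralizer ({x} : Set HNG))) := by
  rw [Cfsg.Agent.H187.Ore.HNX1.card_eleven hx]; decide

/-! ### Order 19 -/

/-- **Frattini**: `y` of prime order `q`, `q² ∤ |C|`, `|C|` even, the normalizer of `⟨y⟩` of odd order; then the normal
closure of `y` has even order -/
theorem frat_odd {C : Type*} [Group C] [Finite C] {q : ℕ} (hq : q.Prime) {y : C} (hy : orderOf y = q)
    (hqq : ¬ q * q ∣ Nat.card C) (h2 : 2 ∣ Nat.card C) (hodd : ¬ 2 ∣ Nat.card (normalizer (zpowers y : Set C))) :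
    2 ∣ Nat.card (normalClosure ({y} : Set C)) := by
  classical
  by_contra hN
  have hfq : Fact q.Prime := ⟨hq⟩
  set N := normalClosure ({y} : Set C) with hNdef
  have hyN : y ∈ N := subset_normalClosure rfl
  let y' : N := ⟨y, hyN⟩
  have hy' : orderOf y' = q := by rw [← hy]; exact Subgroup.orderOf_mk y hyN
  have hcardN : Nat.card N ∣ Nat.card C := Subgroup.card_subgroup_dvd_card N
  have hP : ¬ q ^ 2 ∣ Nat.card N := fun h => hqq (by rw [← pow_two]; exact h.trans hcardN)
  have hPg : IsPGroup q (zpowers y') := IsPGroup.of_card (n := 1) (by rw [Nat.card_zpowers, hy', pow_one])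
  obtain ⟨P, hPle⟩ := hPg.exists_le_sylow
  have hPcard : Nat.card P = q := by
    obtain ⟨m, hm⟩ := IsPGroup.iff_card.1 P.2
    have h1 : m < 2 := by
      by_contra hlt
      apply hP
      have : q ^ 2 ∣ q ^ m := pow_dvd_pow q (by omega)
      rw [← hm] at this
      exact this.trans (Subgroup.card_subgroup_dvd_card _)
    have h2 : q ∣ Nat.card P := by
      have := Subgroup.card_dvd_of_le hPle
      rwa [Nat.card_zpowers, hy'] at this
    rw [hm] at h2 ⊢
    interval_cases m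
    · rw [pow_zero] at h2; exact absurd (Nat.dvd_one.1 h2) hq.one_lt.ne'
    · rw [pow_one]
  have hPeq : zpowers y' = (P : Subgroup N) := by
    apply Subgroup.eq_of_le_of_card_ge hPle
    rw [Nat.card_zpowers, hy']; exact hPcard.le
  have hfr := P.normalizer_sup_eq_top
  rw [← hPeq] at hfr
  have hmap : (zpowers y').map N.subtype = zpowers y := by
    rw [MonoidHom.map_zpowers]; rfl
  rw [hmap] at hfr
  have h1 : Nat.card C ∣ Nat.card (normalizer (zpowers y : Set C)) * Nat.card N := by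
    have h2 : N.relIndex (normalizer (zpowers y : Set C)) = N.index := by
      rw [← Subgroup.relIndex_sup_right (normalizer (zpowers y : Set C)) N, hfr, Subgroup.relIndex_top_right]
    rw [← Subgroup.index_mul_card N, ← h2]
    exact Nat.mul_dvd_mul_right (Subgroup.relIndex_dvd_card _ _) _
  rcases (Nat.Prime.dvd_mul Nat.prime_two).1 (h2.trans h1) with h | h
  · exact hodd h
  · exact hN h

theorem out19 {G Ω : Type} [Group G] [Finite G] [MulAction G Ω] {N : Subgroup G} [hN : N.Normal] [Nonempty Ω]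
    (hRC : RC Cfsg.Spor.HS) (hE : Env G Ω N) (e : N ≃* HNG) {t : G} (ht : t ∉ N) (ht2 : t ^ 2 = 1) {x : HNG}
    (hx : orderOf x = 19) (htx : t * j e x = j e x * t) (hc : ∀ ω : Ω, t • ω = ω ∨ j e x • ω = ω) : False := by
  classical
  have hαα : al e t * al e t = 1 := by rw [← map_mul, ← pow_two, ht2, map_one]
  -- the fixed points of `t`
  set F : Subgroup HNG := (al e t : HNG ≃* HNG).toMonoidHom.eqLocus (MonoidHom.id HNG) with hF
  have hmF : ∀ y : HNG, y ∈ F ↔ al e t y = y := fun y => Iff.rfl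
  have hxF : x ∈ F := (hmF x).2 ((comm_iff e).1 htx)
  have h2F : 2 ∣ Nat.card F := by
    obtain ⟨u, hu1, huu, htu⟩ := Cfsg.Agent.H291.Parity.exists_fixed_invo (al e t) hαα (by
      rw [show Nat.card HNG = 273030912000000 from Cent.card_HN]; decide)
    have h1 : orderOf u = 2 := orderOf_eq_prime (by rw [pow_two, huu]) hu1
    have h2 := orderOf_dvd_natCard (⟨u, (hmF u).2 htu⟩ : F)
    rwa [Subgroup.orderOf_mk, h1] at h2
  let x' : F := ⟨x, hxF⟩
  have hx' : orderOf x' = 19 := by rw [← hx]; exact Subgroup.orderOf_mk x hxF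
  have hodd : ¬ 2 ∣ Nat.card (normalizer (zpowers x' : Set F)) := by
    intro h2
    have h1 : (normalizer (zpowers x' : Set F)).map F.subtype ≤ normalizer (zpowers x : Set HNG) := by
      rintro _ ⟨g, hg, rfl⟩
      have key : ∀ g : F, g ∈ normalizer (zpowers x' : Set F) → ∀ u ∈ zpowers x, (g : HNG) * u * (g : HNG)⁻¹ ∈ zpowers x := by
        rintro g hg u ⟨k, rfl⟩
        have h3 := (mem_normalizer_iff.1 hg (x' ^ k)).1 (zpow_mem (mem_zpowers x') k)
        obtain ⟨m, hm⟩ := mem_zpowers_iff.1 h3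
        exact mem_zpowers_iff.2 ⟨m, congrArg Subtype.val hm⟩
      refine mem_norm_of (key g hg) ?_
      intro u hu
      exact key g⁻¹ (inv_mem hg) u hu
    have h3 : Nat.card (normalizer (zpowers x' : Set F)) ∣ 171 := by
      rw [← norm19 hx, Nat.card_congr ((normalizer (zpowers x' : Set F)).equivMapOfInjective F.subtype
        F.subtype_injective).toEquiv]
      exact Subgroup.card_dvd_of_le h1
    have h4 := h2.trans h3
    norm_num at h4
  have h1 := frat_odd (by norm_num : Nat.Prime 19) hx' (by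
    intro h
    have h1 := h.trans (Subgroup.card_subgroup_dvd_card F)
    rw [show Nat.card HNG = 273030912000000 from Cent.card_HN] at h1
    norm_num at h1) h2F hodd
  have hf2 : Fact (Nat.Prime 2) := ⟨Nat.prime_two⟩
  obtain ⟨u, hu⟩ := exists_prime_orderOf_dvd_card' 2 h1
  have hu2 : orderOf ((u : F) : HNG) = 2 := by rw [Subgroup.orderOf_coe, Subgroup.orderOf_coe, hu]
  have htu : t * j e ((u : F) : HNG) = j e ((u : F) : HNG) * t := (comm_iff e).2 ((hmF _).1 (u : F).2)
  refine rule3 hRC hE e ht ht2 hu2 htu fun ω => ?_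
  refine (pair_mv hc ?_ ω).symm
  have h2 : (normalClosure ({x'} : Set F)).map ((j e).comp F.subtype) ≤
      closure {z | ∃ c : G, c * t = t * c ∧ z = c * j e x * c⁻¹} := by
    rw [normalClosure, MonoidHom.map_closure, closure_le]
    rintro _ ⟨w, hw, rfl⟩
    obtain ⟨a, ha, hw⟩ := Group.mem_conjugatesOfSet_iff.1 hw
    rw [Set.mem_singleton_iff] at ha
    subst ha
    obtain ⟨c, hc⟩ := isConj_iff.1 hw
    refine subset_closure ⟨j e (c : HNG), ((comm_iff e).2 ((hmF _).1 c.2)).symm, ?_⟩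
    rw [← hc]
    change j e ((c : HNG) * x * (c : HNG)⁻¹) = _
    rw [map_mul, map_mul, map_inv]
  exact h2 ⟨_, u.2, rfl⟩

end Cfsg.Agent.H680.RG.HN
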