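import Cfsg.Agent.H187.Ore.HNX1
import Cfsg.Agent.UAlt.ModFive

/-!
# S3509, row `HN`: permutations of twelve points (helper680)

* `comm_cycle` : the permutations commuting with a cycle `c`;
* `fix_of_sq`  : `σ² = 1` and `σ` commutes with a cycle of odd order: `σ` fixes the points moved by `c`;
* `mem_closure_alt` : the normal closure of a nontrivial element of `alt S`.
-/

set_option autoImplicit false
set_option linter.unusedSectionVars false
set_option linter.unusedVariables false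

namespace Cfsg.Agent.H680.RG.HN.Perm12

open Equiv Equiv.Perm Subgroup
open Cfsg.Agent.CpAutHN.Alt (cy x1)
open Cfsg.Agent.UAlt
open scoped commutatorElement

/-- permutations -/
abbrev P : Type := Equiv.Perm (Fin 12)

theorem comm_pow_apply {c g : P} (h : g * c = c * g) (k : ℕ) (p : Fin 12) : g ((c ^ k) p) = (c ^ k) (g p) := by
  have h1 : g * c ^ k = c ^ k * g := (show Commute g c from h).pow_right k
  have h2 := congrArg (fun f : P => f p) h1
  exact h2

/-- the permutations commuting with a cycle -/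
theorem comm_cycle {c f : P} {S : Finset (Fin 12)} {p0 : Fin 12} (hS : ∀ p, p ∈ S ↔ c p = p) (h0 : p0 ∉ S) {n : ℕ}
    (hc : ∀ p, p ∉ S → ∃ i < n, (c ^ i) p0 = p) (hf : f * c = c * f) :
    ∃ i < n, (c ^ i) p0 = f p0 ∧ ∃ g ∈ sym S, f = c ^ i * g ∧ g * c = c * g := by
  have h1 : f p0 ∉ S := by
    intro h
    rw [hS] at h h0
    apply h0
    apply f.injective
    have h2 := congrArg (fun f : P => f p0) hf
    change f (c p0) = c (f p0) at h2
    rw [h2, h]
  obtain ⟨i, hi, hi'⟩ := hc _ h1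
  have hg : ((c ^ i)⁻¹ * f) * c = c * ((c ^ i)⁻¹ * f) := by
    have h2 : (c ^ i)⁻¹ * c = c * (c ^ i)⁻¹ := ((Commute.refl c).pow_left i).inv_left
    calc (c ^ i)⁻¹ * f * c = (c ^ i)⁻¹ * (f * c) := by group
      _ = (c ^ i)⁻¹ * c * f := by rw [hf]; group
      _ = c * ((c ^ i)⁻¹ * f) := by rw [h2]; group
  refine ⟨i, hi, hi', (c ^ i)⁻¹ * f, ?_, by group, hg⟩
  intro p hp
  obtain ⟨k, -, rfl⟩ := hc p hp
  rw [comm_pow_apply hg]
  congr 1
  change (c ^ i)⁻¹ (f p0) = p0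
  rw [← hi']
  simp

/-- an involution commuting with a cycle of odd order -/
theorem fix_of_sq {c f : P} {S : Finset (Fin 12)} {p0 : Fin 12} (hS : ∀ p, p ∈ S ↔ c p = p) (h0 : p0 ∉ S) {n : ℕ}
    (hc : ∀ p, p ∉ S → ∃ i < n, (c ^ i) p0 = p) (hodd : ∀ i < n, (c ^ i) ((c ^ i) p0) = p0 → i = 0) (hf : f * c = c * f)
    (hff : f * f = 1) : ∀ p, p ∉ S → f p = p := by
  obtain ⟨i, hi, hi', g, hg, hfg, hgc⟩ := comm_cycle hS h0 hc hf
  have h1 : f (f p0) = p0 := congrArg (fun f : P => f p0) hff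
  rw [← hi', comm_pow_apply hf, ← hi'] at h1
  obtain rfl := hodd i hi h1
  rw [pow_zero, one_mul] at hfg
  rw [hfg]
  exact hg

theorem exists_ncomm {S : Finset (Fin 12)} (h5 : 5 ≤ S.card) : ∃ a b : alt S, a * b ≠ b * a := by
  have := isSimpleGroup_alt h5
  by_contra h
  push Not at h
  obtain ⟨i, hi, j, hj, k, hk, hij, hik, hjk⟩ : ∃ i ∈ S, ∃ j ∈ S, ∃ k ∈ S, i ≠ j ∧ i ≠ k ∧ j ≠ k :=
    Finset.two_lt_card.1 (by omega)
  have h1 := cyc_mem_alt hi hj hk hij hjk
  have h2 := apply_of_comm_alt (S := S) (by omega) (g := Cfsg.Agent.StdAlt.PermTypes.cyc i j k) (fun σ hσ =>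
    congrArg Subtype.val (h ⟨_, h1⟩ ⟨σ, hσ⟩)) hi
  rw [Cfsg.Agent.StdAlt.PermTypes.cyc_apply_fst hik hij] at h2
  exact hij h2.symm

theorem alt_perfect {S : Finset (Fin 12)} (h5 : 5 ≤ S.card) : commutator (alt S) = ⊤ := by
  have hs := isSimpleGroup_alt h5
  rcases hs.eq_bot_or_eq_top_of_normal (commutator (alt S)) inferInstance with h | h
  · exfalso
    obtain ⟨a, b, hab⟩ := exists_ncomm h5
    apply hab
    have h1 : ⁅a, b⁆ ∈ commutator (alt S) := commutator_mem_commutator (mem_top a) (mem_top b)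
    rw [h, mem_bot, commutatorElement_eq_one_iff_mul_comm] at h1
    exact h1
  · exact h

/-- the normal closure of a nontrivial element -/
theorem mem_closure_alt {S : Finset (Fin 12)} (h5 : 5 ≤ S.card) {f : alt S} (hf : f ≠ 1) (s : alt S) :
    s ∈ closure {z | ∃ c : alt S, z = c * f * c⁻¹} := by
  have hs := isSimpleGroup_alt h5
  have h1 : (closure {z | ∃ c : alt S, z = c * f * c⁻¹}).Normal := by
    constructor
    intro n hn g
    refine closure_induction (p := fun n _ => g * n * g⁻¹ ∈ closure {z | ∃ c : alt S, z = c * f * c⁻¹}) ?_ ?_ ?_ ?_ hn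
    · rintro _ ⟨c, rfl⟩
      exact subset_closure ⟨g * c, by group⟩
    · simp [one_mem]
    · intro a b _ _ ha hb
      have e : g * (a * b) * g⁻¹ = (g * a * g⁻¹) * (g * b * g⁻¹) := by group
      rw [e]
      exact mul_mem ha hb
    · intro a _ ha
      have e : g * a⁻¹ * g⁻¹ = (g * a * g⁻¹)⁻¹ := by group
      rw [e]
      exact inv_mem ha
  rcases hs.eq_bot_or_eq_top_of_normal _ h1 with h | h
  · exfalso
    apply hf
    have h2 : f ∈ closure {z | ∃ c : alt S, z = c * f * c⁻¹} := subset_closure ⟨1, by simp⟩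
    rwa [h, mem_bot] at h2
  · rw [h]; exact mem_top s

/-! ### The cycles -/

/-- `(0 1 2 3 4 5 6)` -/
abbrev c7 : P := Cfsg.Agent.H845.HNSeven.c7
/-- `(0 1 2 3 4)` -/
def c5 : P := cy [0, 1, 2, 3, 4]
/-- `(7 8 9 10 11)` -/
def d5 : P := cy [7, 8, 9, 10, 11]

/-- the fixed points of `(9 10 11)` -/
def S9 : Finset (Fin 12) := {0, 1, 2, 3, 4, 5, 6, 7, 8}
/-- the points of `c7` -/
def S7 : Finset (Fin 12) := {0, 1, 2, 3, 4, 5, 6}
/-- the points of `c5` -/
def S5 : Finset (Fin 12) := {0, 1, 2, 3, 4}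
/-- the fixed points of `c7` -/
def T5 : Finset (Fin 12) := {7, 8, 9, 10, 11}
/-- the fixed points of `c5` -/
def T7 : Finset (Fin 12) := {5, 6, 7, 8, 9, 10, 11}

theorem c5_mem : c5 ∈ alternatingGroup (Fin 12) := by rw [mem_alternatingGroup]; decide +kernel
theorem d5_mem : d5 ∈ alternatingGroup (Fin 12) := by rw [mem_alternatingGroup]; decide +kernel

theorem x1_S : ∀ p, p ∈ S9 ↔ x1 p = p := by decide +kernel
theorem x1_c : ∀ p, p ∉ S9 → ∃ i < 3, (x1 ^ i) 9 = p := by decide +kernel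
theorem c7_S : ∀ p, p ∈ T5 ↔ c7 p = p := by decide +kernel
theorem c7_c : ∀ p, p ∉ T5 → ∃ i < 7, (c7 ^ i) 0 = p := by decide +kernel
theorem c7_o : ∀ i < 7, (c7 ^ i) ((c7 ^ i) 0) = 0 → i = 0 := by decide +kernel
theorem c5_S : ∀ p, p ∈ T7 ↔ c5 p = p := by decide +kernel
theorem c5_c : ∀ p, p ∉ T7 → ∃ i < 5, (c5 ^ i) 0 = p := by decide +kernel
theorem c5_o : ∀ i < 5, (c5 ^ i) ((c5 ^ i) 0) = 0 → i = 0 := by decide +kernel
theorem d5_S : ∀ p, p ∈ S7 ↔ d5 p = p := by decide +kernel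
theorem d5_c : ∀ p, p ∉ S7 → ∃ i < 5, (d5 ^ i) 7 = p := by decide +kernel
theorem d5_o : ∀ i < 5, (d5 ^ i) ((d5 ^ i) 7) = 7 → i = 0 := by decide +kernel

theorem cent_x1 {f : P} (hf : f * x1 = x1 * f) : ∃ i : ℕ, ∃ g ∈ sym S9, f = x1 ^ i * g := by
  obtain ⟨i, -, -, g, hg, h, -⟩ := comm_cycle x1_S (by decide) x1_c hf
  exact ⟨i, g, hg, h⟩

theorem cent_c7 {f : P} (hf : f * c7 = c7 * f) : ∃ i : ℕ, ∃ g ∈ sym T5, f = c7 ^ i * g := by
  obtain ⟨i, -, -, g, hg, h, -⟩ := comm_cycle c7_S (by decide) c7_c hf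
  exact ⟨i, g, hg, h⟩

theorem fix_c7 {f : P} (hf : f * c7 = c7 * f) (hff : f * f = 1) : ∀ p ∈ S7, f p = p := fun p hp =>
  fix_of_sq c7_S (by decide) c7_c c7_o hf hff p (by revert p; decide)

theorem fix_c5 {f : P} (hf : f * c5 = c5 * f) (hff : f * f = 1) : ∀ p ∈ S5, f p = p := fun p hp =>
  fix_of_sq c5_S (by decide) c5_c c5_o hf hff p (by revert p; decide)

theorem fix_d5 {f : P} (hf : f * d5 = d5 * f) (hff : f * f = 1) : ∀ p ∈ T5, f p = p := fun p hp =>
  fix_of_sq d5_S (by decide) d5_c d5_o hf hff p (by revert p; decide)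

/-- a permutation fixing the points of `S` commutes with `alt S` -/
theorem comm_of_fix {S : Finset (Fin 12)} {f : P} (hf : ∀ p ∈ S, f p = p) {a : P} (ha : a ∈ sym S) : f * a * f⁻¹ = a := by
  rw [mul_inv_eq_iff_eq_mul]
  ext p
  rw [Perm.mul_apply, Perm.mul_apply]
  by_cases hp : p ∈ S
  · rw [hf p hp, hf _ (mem_of_mem_sym ha hp)]
  · rw [ha p hp]
    have h1 : f p ∉ S := by
      intro h
      have h2 := hf _ h
      have h3 := f.injective h2
      rw [h3] at h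
      exact hp h
    rw [ha _ h1]

end Cfsg.Agent.H680.RG.HN.Perm12
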