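import Cfsg.Agent.H680.RG.HN.Cases
import Cfsg.Agent.H31.RC.Spor.HN

/-!
# S3509, row `HN` (helper680)

**`rc_HN`** : `RC` for the Harada-Norton group, given `IHx` below its order (`RC HS`).
-/

set_option autoImplicit false
set_option linter.unusedSectionVars false
set_option linter.unusedVariables false

namespace Cfsg.Agent.H680.RG.HN

open Subgroup Cfsg MulAction
open Cfsg.Agent.H106.RC Cfsg.Agent.H867.RC
open Cfsg.Agent.H680.RG.HN.Cent

attribute [local instance] Cfsg.Agent.H569.HNThree.finite_G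

theorem prime_cases {p : ℕ} (hp : p.Prime) (h : p ∣ 273030912000000) :
    p = 2 ∨ p = 3 ∨ p = 5 ∨ p = 7 ∨ p = 11 ∨ p = 19 := by
  have h1 : p ∣ 2 * (3 * (5 * (7 * (11 * 19)))) := by
    have h2 : (273030912000000 : ℕ) ∣ (2 * (3 * (5 * (7 * (11 * 19))))) ^ 14 := by norm_num
    exact hp.dvd_of_dvd_pow (h.trans h2)
  have hq : ∀ q : ℕ, q.Prime → p ∣ q → p = q := fun q hq h => (Nat.prime_dvd_prime_iff_eq hp hq).1 h
  rcases hp.dvd_mul.1 h1 with h1 | h1
  · exact Or.inl (hq 2 (by norm_num) h1)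
  rcases hp.dvd_mul.1 h1 with h1 | h1
  · exact Or.inr (Or.inl (hq 3 (by norm_num) h1))
  rcases hp.dvd_mul.1 h1 with h1 | h1
  · exact Or.inr (Or.inr (Or.inl (hq 5 (by norm_num) h1)))
  rcases hp.dvd_mul.1 h1 with h1 | h1
  · exact Or.inr (Or.inr (Or.inr (Or.inl (hq 7 (by norm_num) h1))))
  rcases hp.dvd_mul.1 h1 with h1 | h1
  · exact Or.inr (Or.inr (Or.inr (Or.inr (Or.inl (hq 11 (by norm_num) h1)))))
  · exact Or.inr (Or.inr (Or.inr (Or.inr (Or.inr (hq 19 (by norm_num) h1)))))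

section

variable {G Ω ι : Type} [Group G] [Finite G] [MulAction G Ω] {N : Subgroup G} [hN : N.Normal]

/-- the members of odd order -/
theorem exists_mem (hE : Env G Ω N) (e : N ≃* HNG) {x : ι → G} {r : ι → ℕ} (hx : PF x r) (i : ι) (hi : r i ≠ 2) :
    ∃ y : HNG, j e y = x i ∧ orderOf y = r i := by
  obtain ⟨y, hy⟩ := exists_j e (odd_mem e hE.cent ((hx.prime i).odd_of_ne_two hi) (hx.pow i))
  have : Fact (r i).Prime := ⟨hx.prime i⟩
  refine ⟨y, hy, orderOf_eq_prime ?_ ?_⟩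
  · apply j_inj e
    rw [map_pow, hy, hx.pow, map_one]
  · intro h
    apply hx.ne i
    rw [← hy, h, map_one]

theorem cases_r (hE : Env G Ω N) (e : N ≃* HNG) {x : ι → G} {r : ι → ℕ} (hx : PF x r) (i : ι) :
    r i = 2 ∨ r i = 3 ∨ r i = 5 ∨ r i = 7 ∨ r i = 11 ∨ r i = 19 := by
  by_cases hi : r i = 2
  · exact Or.inl hi
  · obtain ⟨y, hy, ho⟩ := exists_mem hE e hx i hi
    apply prime_cases (hx.prime i)
    rw [← ho, ← show Nat.card HNG = 273030912000000 from Cent.card_HN]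
    exact orderOf_dvd_natCard y

theorem comm_y (e : N ≃* HNG) {x : ι → G} {r : ι → ℕ} (hx : PF x r) {i k : ι} {y z : HNG} (hy : j e y = x i)
    (hz : j e z = x k) : y * z = z * y := comm_of_j e (by rw [hy, hz]; exact hx.comm i k)

/-- a member of order 19 is the only member of odd order -/
theorem only19 (hE : Env G Ω N) (e : N ≃* HNG) {x : ι → G} {r : ι → ℕ} (hx : PF x r) {i k : ι} (hi : r i = 19)
    (hk : r k ≠ 2) : r k = 19 := by
  obtain ⟨y, hy, ho⟩ := exists_mem hE e hx i (by rw [hi]; norm_num)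
  obtain ⟨z, hz, hoz⟩ := exists_mem hE e hx k hk
  have h1 := dvd_cent (x := y) hoz (comm_y e hx hz hy)
  rw [Cfsg.Agent.H187.Ore.HNX1.card_nineteen (ho.trans hi)] at h1
  exact (Nat.prime_dvd_prime_iff_eq (hx.prime k) (by norm_num)).1 h1

theorem only11 (hE : Env G Ω N) (e : N ≃* HNG) {x : ι → G} {r : ι → ℕ} (hx : PF x r) {i k : ι} (hi : r i = 11)
    (hk : r k ≠ 2) : r k = 11 := by
  obtain ⟨y, hy, ho⟩ := exists_mem hE e hx i (by rw [hi]; norm_num)
  obtain ⟨z, hz, hoz⟩ := exists_mem hE e hx k hk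
  have h1 := dvd_cent (x := y) hoz (comm_y e hx hz hy)
  rw [Cfsg.Agent.H187.Ore.HNX1.card_eleven (ho.trans hi), show 22 = 2 * 11 by norm_num] at h1
  rcases (hx.prime k).dvd_mul.1 h1 with h | h
  · exact absurd ((Nat.prime_dvd_prime_iff_eq (hx.prime k) (by norm_num)).1 h) hk
  · exact (Nat.prime_dvd_prime_iff_eq (hx.prime k) (by norm_num)).1 h

theorem not_all (hE : Env G Ω N) (e : N ≃* HNG) {x : ι → G} {r : ι → ℕ} (hx : PF x r) {a b c : ι} (ha : r a = 3)
    (hb : r b = 5) (hc : r c = 7) : False := by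
  obtain ⟨u, hu, hou⟩ := exists_mem hE e hx a (by rw [ha]; norm_num)
  obtain ⟨v, hv, hov⟩ := exists_mem hE e hx b (by rw [hb]; norm_num)
  obtain ⟨w, hw, how⟩ := exists_mem hE e hx c (by rw [hc]; norm_num)
  exact no_105 (hou.trans ha) (hov.trans hb) (how.trans hc) (comm_y e hx hv hu) (comm_y e hx hw hu) (comm_y e hx hv hw)

/-- **no cover with an outer involution** -/
theorem outer [Nonempty Ω] [Finite ι] (hRC : RC Cfsg.Spor.HS) (hE : Env G Ω N) (e : N ≃* HNG) {x : ι → G} {r : ι → ℕ}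
    (hx : PF x r) (hc : Cov Ω x) {i2 : ι} (hi2 : r i2 = 2) (hout : x i2 ∉ N) : False := by
  have ht2 : x i2 ^ 2 = 1 := by rw [← hi2]; exact hx.pow i2
  obtain ⟨i1, hi1⟩ := Cov.two hE hc hx.ne i2
  have hi1' : r i1 ≠ 2 := fun h => hi1 (hx.inj (h.trans hi2.symm))
  have two : ∀ k, r k = 2 → k = i2 := fun k hk => hx.inj (hk.trans hi2.symm)
  by_cases h19 : ∃ i, r i = 19
  · obtain ⟨i, hi⟩ := h19
    obtain ⟨y, hy, ho⟩ := exists_mem hE e hx i (by rw [hi]; norm_num)
    refine out19 hRC hE e hout ht2 (ho.trans hi) (by rw [hy]; exact hx.comm _ _) fun ω => ?_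
    obtain ⟨k, hk⟩ := hc ω
    by_cases hk2 : r k = 2
    · left; rw [← two k hk2]; exact hk
    · right; rw [hy, ← hx.inj ((only19 hE e hx hi hk2).trans hi.symm)]; exact hk
  by_cases h11 : ∃ i, r i = 11
  · obtain ⟨i, hi⟩ := h11
    obtain ⟨y, hy, ho⟩ := exists_mem hE e hx i (by rw [hi]; norm_num)
    refine out_one hRC hE e hout ht2 (by norm_num) (by norm_num) (ho.trans hi) (even11 (ho.trans hi))
      (by rw [hy]; exact hx.comm _ _) fun ω => ?_
    obtain ⟨k, hk⟩ := hc ω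
    by_cases hk2 : r k = 2
    · left; rw [← two k hk2]; exact hk
    · right; rw [hy, ← hx.inj ((only11 hE e hx hi hk2).trans hi.symm)]; exact hk
  push Not at h19 h11
  have hall : ∀ k, r k = 2 ∨ r k = 3 ∨ r k = 5 ∨ r k = 7 := by
    intro k
    rcases cases_r hE e hx k with h | h | h | h | h | h
    · exact Or.inl h
    · exact Or.inr (Or.inl h)
    · exact Or.inr (Or.inr (Or.inl h))
    · exact Or.inr (Or.inr (Or.inr h))
    · exact absurd h (h11 k)
    · exact absurd h (h19 k)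
  have same : ∀ {i k : ι} {p : ℕ}, r i = p → r k = p → k = i := fun h1 h2 => hx.inj (h2.trans h1.symm)
  by_cases h3 : ∃ i, r i = 3 <;> by_cases h5 : ∃ i, r i = 5 <;> by_cases h7 : ∃ i, r i = 7
  · obtain ⟨a, ha⟩ := h3
    obtain ⟨b, hb⟩ := h5
    obtain ⟨c, hc'⟩ := h7
    exact not_all hE e hx ha hb hc'
  · obtain ⟨a, ha⟩ := h3
    obtain ⟨b, hb⟩ := h5
    obtain ⟨u, hu, hou⟩ := exists_mem hE e hx a (by rw [ha]; norm_num)
    obtain ⟨v, hv, hov⟩ := exists_mem hE e hx b (by rw [hb]; norm_num)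
    refine out35 hRC hE e hout ht2 (hou.trans ha) (hov.trans hb) (comm_y e hx hv hu) (by rw [hu]; exact hx.comm _ _)
      (by rw [hv]; exact hx.comm _ _) fun ω => ?_
    obtain ⟨k, hk⟩ := hc ω
    rcases hall k with h | h | h | h
    · left; rw [← two k h]; exact hk
    · right; left; rw [hu, ← same ha h]; exact hk
    · right; right; rw [hv, ← same hb h]; exact hk
    · exact absurd ⟨k, h⟩ h7
  · obtain ⟨a, ha⟩ := h3
    obtain ⟨b, hb⟩ := h7
    obtain ⟨u, hu, hou⟩ := exists_mem hE e hx a (by rw [ha]; norm_num)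
    obtain ⟨v, hv, hov⟩ := exists_mem hE e hx b (by rw [hb]; norm_num)
    refine out37 hRC hE e hout ht2 (hou.trans ha) (hov.trans hb) (comm_y e hx hv hu) (by rw [hu]; exact hx.comm _ _)
      (by rw [hv]; exact hx.comm _ _) fun ω => ?_
    obtain ⟨k, hk⟩ := hc ω
    rcases hall k with h | h | h | h
    · left; rw [← two k h]; exact hk
    · right; left; rw [hu, ← same ha h]; exact hk
    · exact absurd ⟨k, h⟩ h5
    · right; right; rw [hv, ← same hb h]; exact hk
  · obtain ⟨a, ha⟩ := h3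
    obtain ⟨u, hu, hou⟩ := exists_mem hE e hx a (by rw [ha]; norm_num)
    refine out_one hRC hE e hout ht2 Nat.prime_three (by norm_num) (hou.trans ha) (even3 (hou.trans ha))
      (by rw [hu]; exact hx.comm _ _) fun ω => ?_
    obtain ⟨k, hk⟩ := hc ω
    rcases hall k with h | h | h | h
    · left; rw [← two k h]; exact hk
    · right; rw [hu, ← same ha h]; exact hk
    · exact absurd ⟨k, h⟩ h5
    · exact absurd ⟨k, h⟩ h7
  · obtain ⟨a, ha⟩ := h5
    obtain ⟨b, hb⟩ := h7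
    obtain ⟨u, hu, hou⟩ := exists_mem hE e hx a (by rw [ha]; norm_num)
    obtain ⟨v, hv, hov⟩ := exists_mem hE e hx b (by rw [hb]; norm_num)
    refine out57 hRC hE e hout ht2 (hou.trans ha) (hov.trans hb) (comm_y e hx hu hv) (by rw [hu]; exact hx.comm _ _)
      (by rw [hv]; exact hx.comm _ _) fun ω => ?_
    obtain ⟨k, hk⟩ := hc ω
    rcases hall k with h | h | h | h
    · left; rw [← two k h]; exact hk
    · exact absurd ⟨k, h⟩ h3
    · right; left; rw [hu, ← same ha h]; exact hk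
    · right; right; rw [hv, ← same hb h]; exact hk
  · obtain ⟨a, ha⟩ := h5
    obtain ⟨u, hu, hou⟩ := exists_mem hE e hx a (by rw [ha]; norm_num)
    refine out_one hRC hE e hout ht2 Nat.prime_five (by norm_num) (hou.trans ha) (even5 (hou.trans ha))
      (by rw [hu]; exact hx.comm _ _) fun ω => ?_
    obtain ⟨k, hk⟩ := hc ω
    rcases hall k with h | h | h | h
    · left; rw [← two k h]; exact hk
    · exact absurd ⟨k, h⟩ h3
    · right; rw [hu, ← same ha h]; exact hk
    · exact absurd ⟨k, h⟩ h7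
  · obtain ⟨a, ha⟩ := h7
    obtain ⟨u, hu, hou⟩ := exists_mem hE e hx a (by rw [ha]; norm_num)
    refine out_one hRC hE e hout ht2 (by norm_num) (by norm_num) (hou.trans ha) (even7 (hou.trans ha))
      (by rw [hu]; exact hx.comm _ _) fun ω => ?_
    obtain ⟨k, hk⟩ := hc ω
    rcases hall k with h | h | h | h
    · left; rw [← two k h]; exact hk
    · exact absurd ⟨k, h⟩ h3
    · exact absurd ⟨k, h⟩ h5
    · right; rw [hu, ← same ha h]; exact hk
  · rcases hall i1 with h | h | h | h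
    · exact hi1' h
    · exact h3 ⟨i1, h⟩
    · exact h5 ⟨i1, h⟩
    · exact h7 ⟨i1, h⟩

/-- **no cover by elements of odd order** -/
theorem inner [Nonempty Ω] [Finite ι] (hRC : RC Cfsg.Spor.HS) (hE : Env G Ω N) (e : N ≃* HNG) {x : ι → G} {r : ι → ℕ}
    (hx : PF x r) (hc : Cov Ω x) (hno : ∀ i, r i ≠ 2) : False := by
  obtain ⟨ω₀⟩ := (inferInstance : Nonempty Ω)
  obtain ⟨i0, -⟩ := hc ω₀
  have one : ∀ i, ∃ k, k ≠ i := fun i => Cov.two hE hc hx.ne i
  have hall : ∀ k, r k = 3 ∨ r k = 5 ∨ r k = 7 := by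
    intro k
    rcases cases_r hE e hx k with h | h | h | h | h | h
    · exact absurd h (hno k)
    · exact Or.inl h
    · exact Or.inr (Or.inl h)
    · exact Or.inr (Or.inr h)
    · exfalso
      obtain ⟨l, hl⟩ := one k
      exact hl (hx.inj ((only11 hE e hx h (hno l)).trans h.symm))
    · exfalso
      obtain ⟨l, hl⟩ := one k
      exact hl (hx.inj ((only19 hE e hx h (hno l)).trans h.symm))
  have same : ∀ {i k : ι} {p : ℕ}, r i = p → r k = p → k = i := fun h1 h2 => hx.inj (h2.trans h1.symm)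
  have kill : ∀ p : ℕ, (∀ k, r k = p) → False := by
    intro p hp
    obtain ⟨l, hl⟩ := one i0
    exact hl (same (hp i0) (hp l))
  by_cases h3 : ∃ i, r i = 3 <;> by_cases h5 : ∃ i, r i = 5 <;> by_cases h7 : ∃ i, r i = 7
  · obtain ⟨a, ha⟩ := h3
    obtain ⟨b, hb⟩ := h5
    obtain ⟨c, hc'⟩ := h7
    exact not_all hE e hx ha hb hc'
  · obtain ⟨a, ha⟩ := h3
    obtain ⟨b, hb⟩ := h5
    obtain ⟨u, hu, hou⟩ := exists_mem hE e hx a (by rw [ha]; norm_num)
    obtain ⟨v, hv, hov⟩ := exists_mem hE e hx b (by rw [hb]; norm_num)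
    refine in35 hRC hE e (hou.trans ha) (hov.trans hb) (comm_y e hx hv hu) fun ω => ?_
    obtain ⟨k, hk⟩ := hc ω
    rcases hall k with h | h | h
    · left; rw [hu, ← same ha h]; exact hk
    · right; rw [hv, ← same hb h]; exact hk
    · exact absurd ⟨k, h⟩ h7
  · obtain ⟨a, ha⟩ := h3
    obtain ⟨b, hb⟩ := h7
    obtain ⟨u, hu, hou⟩ := exists_mem hE e hx a (by rw [ha]; norm_num)
    obtain ⟨v, hv, hov⟩ := exists_mem hE e hx b (by rw [hb]; norm_num)
    refine in37 hRC hE e (hou.trans ha) (hov.trans hb) (comm_y e hx hv hu) fun ω => ?_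
    obtain ⟨k, hk⟩ := hc ω
    rcases hall k with h | h | h
    · left; rw [hu, ← same ha h]; exact hk
    · exact absurd ⟨k, h⟩ h5
    · right; rw [hv, ← same hb h]; exact hk
  · refine kill 3 fun k => ?_
    rcases hall k with h | h | h
    · exact h
    · exact absurd ⟨k, h⟩ h5
    · exact absurd ⟨k, h⟩ h7
  · obtain ⟨a, ha⟩ := h5
    obtain ⟨b, hb⟩ := h7
    obtain ⟨u, hu, hou⟩ := exists_mem hE e hx a (by rw [ha]; norm_num)
    obtain ⟨v, hv, hov⟩ := exists_mem hE e hx b (by rw [hb]; norm_num)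
    refine in57 hRC hE e (hou.trans ha) (hov.trans hb) (comm_y e hx hu hv) fun ω => ?_
    obtain ⟨k, hk⟩ := hc ω
    rcases hall k with h | h | h
    · exact absurd ⟨k, h⟩ h3
    · left; rw [hu, ← same ha h]; exact hk
    · right; rw [hv, ← same hb h]; exact hk
  · refine kill 5 fun k => ?_
    rcases hall k with h | h | h
    · exact absurd ⟨k, h⟩ h3
    · exact h
    · exact absurd ⟨k, h⟩ h7
  · refine kill 7 fun k => ?_
    rcases hall k with h | h | h
    · exact absurd ⟨k, h⟩ h3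
    · exact absurd ⟨k, h⟩ h5
    · exact h
  · rcases hall i0 with h | h | h
    · exact h3 ⟨i0, h⟩
    · exact h5 ⟨i0, h⟩
    · exact h7 ⟨i0, h⟩

/-- **no cover** -/
theorem no_cover [Nonempty Ω] [Finite ι] (hRC : RC Cfsg.Spor.HS) (hE : Env G Ω N) (e : N ≃* HNG) {x : ι → G}
    {r : ι → ℕ} (hx : PF x r) (hc : Cov Ω x) : False := by
  by_cases h2 : ∃ i, r i = 2
  · obtain ⟨i, hi⟩ := h2
    by_cases hin : x i ∈ N
    · obtain ⟨s, hs⟩ := exists_j e hin
      have hs2 : orderOf s = 2 := by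
        apply orderOf_eq_prime
        · apply j_inj e
          rw [map_pow, hs, ← hi, hx.pow, map_one]
        · intro h
          apply hx.ne i
          rw [← hs, h, map_one]
      refine ruleB hRC hE e hx hc hs2 (fun k => by rw [hs]; exact hx.comm k i) fun k hk => ?_
      rw [hs, hx.inj (hk.trans hi.symm)]
    · exact outer hRC hE e hx hc hi hin
  · push Not at h2
    exact inner hRC hE e hx hc h2

end

/-- **`RC` for the Harada-Norton group**, from `RC HS` -/
theorem rc_HN_of {T : Type} [Group T] [Finite T] (h : Spor.IsoHN T) (hRC : RC Cfsg.Spor.HS) : RC T := by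
  obtain ⟨e⟩ := h
  have hs : IsSimpleGroup T := (MulEquiv.isSimpleGroup_congr e).2 Cfsg.Agent.S1701.result.1
  have hn : ¬ IsMulCommutative T := by
    intro h
    let _ : CommGroup T := { (inferInstance : Group T) with mul_comm := h.is_comm.comm }
    have hp := IsSimpleGroup.prime_card (α := T)
    rw [Nat.card_congr e.toEquiv, show Nat.card Cfsg.Spor.HN = 273030912000000 from Cent.card_HN] at hp
    exact absurd hp (by norm_num)
  refine rc_of_noCov hs hn ?_
  intro G _ _ Ω _ _ _ N hE eN ι _ x r hx hcov _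
  have := hE.norm
  exact no_cover hRC hE (eN.trans e) hx hcov

/-- **`RC` for the Harada-Norton group**, from `IHx` -/
theorem rc_HN {T : Type} [Group T] [Finite T] (h : Spor.IsoHN T) (hI : Cfsg.Agent.H873.RG.IHx (Nat.card T)) : RC T := by
  refine rc_HN_of h ?_
  have hf : Finite Cfsg.Spor.HS := Nat.finite_of_card_ne_zero (by rw [Cfsg.Agent.CTwoTab.HN.card_HS]; norm_num)
  refine hI Cfsg.Spor.HS Cfsg.Agent.H31.RC.Spor.HN.nsa_HS ?_
  obtain ⟨e⟩ := h
  rw [Cfsg.Agent.CTwoTab.HN.card_HS, Nat.card_congr e.toEquiv, show Nat.card Cfsg.Spor.HN = 273030912000000 from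
    Cent.card_HN]
  norm_num

end Cfsg.Agent.H680.RG.HN
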