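import Cfsg.Agent.H680.RG.HN.Base
import Cfsg.Agent.H31.RC.Spor.Gen

/-!
# S3509, row `HN`: the involutions of the class 2B, the outer involutions (helper680)

* `ruleB`  : a family in `N` commuting with an involution `s` of `N`, whose 2-element, if any, is `s`: no cover;
* `rule3`  : `{t, s}`, `t` an outer involution, `s ∈ N` an involution: no cover;
* `rule4`  : `{t, x}`, `x` of odd prime order, and an involution of `N` commutes with both: no cover;
* `rule5`  : `{t, x, y}`, `x, y` of orders `3, 5`, and an involution `s` of `N` commutes with all, `s` in 2A or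
  `16 ∤ |C_N(x)|`: no cover.
-/

set_option autoImplicit false
set_option linter.unusedSectionVars false
set_option linter.unusedVariables false

namespace Cfsg.Agent.H680.RG.HN

open Subgroup Cfsg MulAction
open Cfsg.Agent.H106.RC Cfsg.Agent.H867.RC
open Cfsg.Agent.HN Cfsg.Agent.HN.P1408 Cfsg.Agent.HN.H0Basic Cfsg.Agent.HN.XWords Cfsg.Agent.HN.XStruct
open Cfsg.Agent.KFacts.HN (large RS_isPGroup RS)
open Cfsg.Agent.KFacts.HN.Classes (inv_class)

section gen

variable {G : Type*} [Group G]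

/-- an element of order dividing 5 normalising a group of order at most 8 centralises it -/
theorem fix_of_small [Finite G] (B : Subgroup G) {y : G} (hy : y ^ 5 = 1) (hn : y ∈ normalizer (B : Set G)) {k : ℕ}
    (hk : k ≤ 3) (hB : Nat.card B = 2 ^ k) : ∀ b ∈ B, y * b = b * y := by
  have : Fact (Nat.Prime 5) := ⟨by norm_num⟩
  let f : zpowers y →* MulAut B := (B.normalizerMonoidHom).comp (inclusion (zpowers_le.2 hn))
  let _ : MulAction (zpowers y) B := MulAction.compHom B f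
  have hp : IsPGroup 5 (zpowers y) := by
    rintro ⟨_, m, rfl⟩
    refine ⟨1, Subtype.ext ?_⟩
    change (y ^ m) ^ 5 ^ 1 = 1
    rw [pow_one, ← zpow_natCast, ← zpow_mul, mul_comm, zpow_mul, zpow_natCast, hy, one_zpow]
  have h1 := hp.card_modEq_card_fixedPoints B
  have hsm : ∀ (z : zpowers y) (n : B), ((z • n : B) : G) = (z : G) * n * (z : G)⁻¹ := fun z n => rfl
  have h2 : Nat.card (MulAction.fixedPoints (zpowers y) B) = Nat.card ↥(B ⊓ centralizer ({y} : Set G)) := by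
    refine Nat.card_congr
      { toFun := fun n => ⟨((n : B) : G), (n : B).2, ?_⟩
        invFun := fun n => ⟨⟨(n : G), n.2.1⟩, ?_⟩
        left_inv := fun _ => rfl
        right_inv := fun _ => rfl }
    · have h3 := congrArg Subtype.val (n.2 ⟨y, mem_zpowers y⟩)
      rw [hsm] at h3
      exact mem_centralizer_singleton_iff.2 (mul_inv_eq_iff_eq_mul.1 h3).symm
    · rintro ⟨_, m, rfl⟩
      apply Subtype.ext
      rw [hsm]
      have h3 : Commute y (n : G) := (mem_centralizer_singleton_iff.1 n.2.2).symm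
      change y ^ m * (n : G) * (y ^ m)⁻¹ = n
      rw [(h3.zpow_left m).eq, mul_inv_cancel_right]
  rw [h2, hB] at h1
  have h3 : Nat.card ↥(B ⊓ centralizer ({y} : Set G)) ∣ 2 ^ k := by
    rw [← hB]
    exact Subgroup.card_dvd_of_le inf_le_left
  obtain ⟨l, hl, hc⟩ := (Nat.dvd_prime_pow Nat.prime_two).1 h3
  rw [hc] at h1
  have h4 : k = l := by
    have key : ∀ k < 4, ∀ l < 4, 2 ^ k % 5 = 2 ^ l % 5 → k = l := by decide
    exact key k (by omega) l (by omega) h1
  have h5 : B ⊓ centralizer ({y} : Set G) = B := by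
    apply Subgroup.eq_of_le_of_card_ge inf_le_left
    rw [hc, hB, h4]
  intro b hb
  rw [← h5] at hb
  exact (mem_centralizer_singleton_iff.1 hb.2).symm

/-- `Cm U y` is invariant under the elements which commute with `y` and normalise `U` -/
theorem cm_conj' {U : Subgroup G} {y g : G} (hg : g * y = y * g) (hU : ∀ u ∈ U, g * u * g⁻¹ ∈ U) {w : G}
    (hw : w ∈ Cm U y) : g * w * g⁻¹ ∈ Cm U y := by
  unfold Cm at hw
  refine closure_induction (p := fun w _ => g * w * g⁻¹ ∈ Cm U y) ?_ ?_ ?_ ?_ hw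
  · rintro _ ⟨u, hu, rfl⟩
    have e : g * (u * y * u⁻¹ * y⁻¹) * g⁻¹ = (g * u * g⁻¹) * y * (g * u * g⁻¹)⁻¹ * y⁻¹ := by
      have h1 : g⁻¹ * y * g = y := by rw [mul_assoc, ← hg, inv_mul_cancel_left]
      have h2 : g⁻¹ * y⁻¹ * g = y⁻¹ := by
        have := congrArg (·⁻¹) h1
        simpa [mul_assoc] using this
      calc g * (u * y * u⁻¹ * y⁻¹) * g⁻¹ = g * u * y * u⁻¹ * y⁻¹ * g⁻¹ := by group
        _ = g * u * (g⁻¹ * y * g) * u⁻¹ * (g⁻¹ * y⁻¹ * g) * g⁻¹ := by rw [h1, h2]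
        _ = _ := by group
    rw [e]
    exact cm_gen (hU u hu)
  · simp [one_mem]
  · intro a b _ _ ha hb
    have e : g * (a * b) * g⁻¹ = (g * a * g⁻¹) * (g * b * g⁻¹) := by group
    rw [e]
    exact mul_mem ha hb
  · intro a _ ha
    have e : g * a⁻¹ * g⁻¹ = (g * a * g⁻¹)⁻¹ := by group
    rw [e]
    exact inv_mem ha

end gen

section QQ

variable {G : Type*} [Group G] {N : Subgroup G} [hN : N.Normal] (e : N ≃* HNG)

/-- `O₂(C(z))` -/
noncomputable def QQ : Subgroup G := RS.map (j e)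

/-- the involution of the class 2B -/
noncomputable abbrev zz : G := j e W0

theorem isP : IsPGroup 2 (QQ e) := RS_isPGroup.map (j e)

theorem zz_mem : zz e ∈ QQ e := ⟨_, large.z_mem, rfl⟩

theorem QQ_le : QQ e ≤ N := by
  rintro _ ⟨x, -, rfl⟩
  exact j_mem e x

theorem zz_ne : zz e ≠ 1 := fun h => large.z_ne (j_inj e (h.trans (map_one _).symm))

theorem comm_zz {u : G} (hu : u ∈ QQ e) : u * zz e = zz e * u := by
  obtain ⟨x, hx, rfl⟩ := hu
  rw [zz, ← map_mul, ← map_mul, large.comm_z x hx]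

theorem norm_QQ' {g : G} (hg : g * zz e = zz e * g) : ∀ u ∈ QQ e, g * u * g⁻¹ ∈ QQ e := by
  rintro _ ⟨x, hx, rfl⟩
  rw [← j_al]
  exact ⟨_, Cfsg.Agent.H287.OutHN.map_RS ((comm_iff e).1 hg) hx, rfl⟩

theorem inv_comm {g z : G} (hg : g * z = z * g) : g⁻¹ * z = z * g⁻¹ := by
  rw [inv_mul_eq_iff_eq_mul, ← mul_assoc, hg, mul_inv_cancel_right]

theorem mem_norm_of {U : Subgroup G} {g : G} (h1 : ∀ u ∈ U, g * u * g⁻¹ ∈ U) (h2 : ∀ u ∈ U, g⁻¹ * u * g⁻¹⁻¹ ∈ U) :
    g ∈ normalizer (U : Set G) := by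
  rw [mem_normalizer_iff]
  intro u
  refine ⟨h1 u, fun h => ?_⟩
  have h3 := h2 _ h
  have h4 : g⁻¹ * (g * u * g⁻¹) * g⁻¹⁻¹ = u := by group
  rwa [h4] at h3

theorem norm_QQ {g : G} (hg : g * zz e = zz e * g) : g ∈ normalizer (QQ e : Set G) :=
  mem_norm_of (norm_QQ' e hg) (norm_QQ' e (inv_comm hg))

theorem cent_QQ {c : G} (hc : c ∈ QQ e) (h : ∀ u ∈ QQ e, u * c = c * u) : c = 1 ∨ c = zz e := by
  obtain ⟨x, hx, rfl⟩ := hc
  rcases large.cent x hx (fun y hy => by
    apply j_inj e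
    rw [map_mul, map_mul]
    exact (h _ ⟨y, hy, rfl⟩).symm) with rfl | rfl
  · left; rw [map_one]
  · right; rfl

theorem sq_QQ {u : G} (hu : u ∈ QQ e) : u * u = 1 ∨ u * u = zz e := by
  obtain ⟨x, hx, rfl⟩ := hu
  rcases large.sq x hx with h | h
  · left; rw [← map_mul, h, map_one]
  · right; rw [← map_mul, h]

/-- outer elements do not centralise `QQ` -/
theorem not_cent_out (hc : centralizer (N : Set G) = ⊥) {g : G} (hg : g * zz e = zz e * g) (hgN : g ∉ N) :
    ∃ u ∈ QQ e, u * g ≠ g * u := by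
  by_contra hno
  push Not at hno
  apply hgN
  apply mem_of_inner e hc
  obtain ⟨y, -, hy⟩ := Cfsg.Agent.KFacts.HN.aut0 (α := al e g) ((comm_iff e).1 hg) fun x hx => Or.inl
    ((comm_iff e).1 (hno _ ⟨x, hx, rfl⟩).symm)
  exact ⟨y, hy⟩

/-- elements of odd prime order do not centralise `QQ` -/
theorem not_cent_odd (hc : centralizer (N : Set G) = ⊥) {g : G} (hg : g * zz e = zz e * g) {r : ℕ} (hr : r.Prime)
    (hr2 : r ≠ 2) (hgr : g ^ r = 1) (hg1 : g ≠ 1) : ∃ u ∈ QQ e, u * g ≠ g * u := by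
  have hgN : g ∈ N := odd_mem e hc (hr.odd_of_ne_two hr2) hgr
  obtain ⟨y, rfl⟩ := exists_j e hgN
  have h1 : y * W0 = W0 * y := by
    apply j_inj e
    rw [map_mul, map_mul]
    exact hg
  obtain ⟨u, hu, huy⟩ := Cfsg.Agent.H31.RC.Spor.Large.not_cent large h1 hr hr2 (j_inj e (by rw [map_pow, hgr, map_one]))
    (fun h => hg1 (by rw [h, map_one]))
  exact ⟨_, ⟨u, hu, rfl⟩, fun h => huy (j_inj e (by rw [map_mul, map_mul]; exact h))⟩

/-- an involution in a nontrivial subgroup of `QQ` -/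
theorem exists_inv {w : G} (hw : w ∈ QQ e) (hw1 : w ≠ 1) : ∃ s : HNG, orderOf s = 2 ∧ (j e s = w ∨ j e s = w * w) := by
  have key : ∀ v ∈ QQ e, v ≠ 1 → v * v = 1 → ∃ s : HNG, orderOf s = 2 ∧ j e s = v := by
    intro v hv hv1 hvv
    obtain ⟨s, rfl⟩ := exists_j e (QQ_le e hv)
    refine ⟨s, orderOf_eq_prime ?_ (fun h => hv1 (by rw [h, map_one])), rfl⟩
    apply j_inj e
    rw [map_pow, pow_two, hvv, map_one]
  rcases sq_QQ e hw with h | h
  · obtain ⟨s, h1, h2⟩ := key w hw hw1 h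
    exact ⟨s, h1, Or.inl h2⟩
  · have hz : zz e * zz e = 1 := by rw [zz, ← map_mul, large.z_sq, map_one]
    obtain ⟨s, h1, h2⟩ := key (w * w) (mul_mem hw hw) (by rw [h]; exact zz_ne e) (by rw [h]; exact hz)
    exact ⟨s, h1, Or.inr h2⟩

end QQ

section rules

variable {G Ω ι : Type} [Group G] [Finite G] [MulAction G Ω] {N : Subgroup G} [hN : N.Normal]

/-- **Rule 2B** in `N`, `s = W0` -/
theorem ruleB0 [Nonempty Ω] [Finite ι] (hE : Env G Ω N) (e : N ≃* HNG) {x : ι → G} {r : ι → ℕ} (hx : PF x r)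
    (hc : Cov Ω x) (hcomm : ∀ i, x i * zz e = zz e * x i) (h2 : ∀ i, r i = 2 → x i = zz e) : False := by
  refine ruleA' hE hx hc Nat.prime_two (QQ e) (isP e) (fun i => norm_QQ e (hcomm i)) (zz_ne e) (fun u hu => comm_zz e hu)
    ?_ ?_ ?_
  · intro c hcQ hcc _ hc1
    rcases cent_QQ e hcQ hcc with h | h
    · exact absurd h hc1
    · rw [h]; exact mem_zpowers _
  · intro i hi
    exact not_cent_odd e hE.cent (hcomm i) (hx.prime i) hi (hx.pow i) (hx.ne i)
  · intro i hi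
    rw [h2 i hi]; exact mem_zpowers _

/-- **Rule B**: the members commute with an involution `s` of `N`, and the 2-element, if any, is `s` -/
theorem ruleB [Nonempty Ω] [Finite ι] (hRC : RC Cfsg.Spor.HS) (hE : Env G Ω N) (e : N ≃* HNG) {x : ι → G} {r : ι → ℕ}
    (hx : PF x r) (hc : Cov Ω x) {s : HNG} (hs : orderOf s = 2) (hcomm : ∀ i, x i * j e s = j e s * x i)
    (h2 : ∀ i, r i = 2 → x i = j e s) : False := by
  rcases inv_class hs with h | h
  · exact rule2A hRC hE e hx h hcomm fun ω => Or.inl (hc ω)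
  · obtain ⟨c, hc'⟩ := exists_tw e h
    refine ruleB0 hE (tw e c) hx hc ?_ ?_
    · rw [zz, hc']; exact hcomm
    · rw [zz, hc']; exact h2

/-- `{t, z}` is no cover -/
theorem rule3B [Nonempty Ω] (hE : Env G Ω N) (e : N ≃* HNG) {t : G} (ht : t ∉ N) (htz : t * zz e = zz e * t)
    (hc : ∀ ω : Ω, zz e • ω = ω ∨ t • ω = ω) : False := by
  refine rulePair hE (zz_ne e) hc ?_
  have h1 : zz e ∈ Cm (QQ e) t := mem_cm Nat.prime_two (isP e) (fun c hcQ hcc _ hc1 => by
    rcases cent_QQ e hcQ hcc with h | h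
    · exact absurd h hc1
    · rw [h]; exact mem_zpowers _) (norm_QQ e htz) (not_cent_out e hE.cent htz ht)
  have h2 : Cm (QQ e) t ≤ closure {w | ∃ c : G, c * zz e = zz e * c ∧ w = c * t * c⁻¹} := by
    rw [Cm, closure_le]
    rintro _ ⟨u, hu, rfl⟩
    exact mul_mem (subset_closure ⟨u, comm_zz e hu, rfl⟩) (inv_mem (subset_closure ⟨1, by simp, by simp⟩))
  exact h2 h1

theorem pf_one {t : G} (ht2 : t ^ 2 = 1) (ht1 : t ≠ 1) : PF (fun _ : Unit => t) (fun _ => 2) where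
  prime _ := Nat.prime_two
  inj _ _ _ := rfl
  pow _ := ht2
  ne _ := ht1
  comm _ _ := rfl

theorem ne_one_of {t : G} (ht : t ∉ N) : t ≠ 1 := by
  rintro rfl
  exact ht N.one_mem

/-- **`{t, s}` is no cover** -/
theorem rule3 [Nonempty Ω] (hRC : RC Cfsg.Spor.HS) (hE : Env G Ω N) (e : N ≃* HNG) {t : G} (ht : t ∉ N) (ht2 : t ^ 2 = 1)
    {s : HNG} (hs : orderOf s = 2) (hts : t * j e s = j e s * t) (hc : ∀ ω : Ω, j e s • ω = ω ∨ t • ω = ω) : False := by
  rcases inv_class hs with h | h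
  · exact rule2A hRC hE e (pf_one ht2 (ne_one_of ht)) h (fun _ => hts) fun ω => (hc ω).symm.imp (fun h => ⟨(), h⟩) id
  · obtain ⟨c, hc'⟩ := exists_tw e h
    refine rule3B hE (tw e c) ht ?_ ?_
    · rw [zz, hc']; exact hts
    · rw [zz, hc']; exact hc

/-- `C_Q(t)` -/
noncomputable def UU (e : N ≃* HNG) (t : G) : Subgroup G := QQ e ⊓ centralizer ({t} : Set G)

theorem UU_inv {e : N ≃* HNG} {t g : G} (hg : g * zz e = zz e * g) (hgt : g * t = t * g) :
    ∀ u ∈ UU e t, g * u * g⁻¹ ∈ UU e t := by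
  rintro u ⟨h1, h2⟩
  refine ⟨norm_QQ' e hg u h1, mem_centralizer_singleton_iff.2 ?_⟩
  have h3 := mem_centralizer_singleton_iff.1 h2
  have h4 := inv_comm hgt
  calc g * u * g⁻¹ * t = g * u * (g⁻¹ * t) := by group
    _ = g * (u * t) * g⁻¹ := by rw [h4]; group
    _ = g * t * u * g⁻¹ := by rw [h3]; group
    _ = t * (g * u * g⁻¹) := by rw [hgt]; group

theorem UU_norm {e : N ≃* HNG} {t g : G} (hg : g * zz e = zz e * g) (hgt : g * t = t * g) :
    g ∈ normalizer (UU e t : Set G) := mem_norm_of (UU_inv hg hgt) (UU_inv (inv_comm hg) (inv_comm hgt))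

/-- an element of odd prime order centralising `C_Q(t)` -/
theorem exists_UU (hE : Env G Ω N) {e : N ≃* HNG} {t g : G} (ht2 : t ^ 2 = 1) (htz : t * zz e = zz e * t)
    (hg : g * zz e = zz e * g) (hgt : g * t = t * g) {r : ℕ} (hr : r.Prime)
    (hr2 : r ≠ 2) (hgr : g ^ r = 1) (hg1 : g ≠ 1) : ∃ u ∈ UU e t, u * g ≠ g * u := by
  by_contra hno
  push Not at hno
  have : Fact (Nat.Prime 2) := ⟨Nat.prime_two⟩
  have hor : orderOf g = r := by
    have : Fact r.Prime := ⟨hr⟩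
    exact orderOf_eq_prime hgr hg1
  have hzt : ∀ d ∈ zpowers t, d * g = g * d := by
    rintro _ ⟨m, rfl⟩
    exact ((show Commute t g from hgt.symm).zpow_left m).eq
  have h1 : g ∈ centralizer (QQ e : Set G) := by
    refine H225.AxB.axb (p := 2) (D := zpowers t) (isP e) (zpowers_le.2 (norm_QQ e htz)) ?_ (norm_QQ e hg) ?_ ?_ ?_
    · rintro _ ⟨m, rfl⟩
      refine ⟨1, ?_⟩
      change (t ^ m) ^ 2 ^ 1 ∈ _
      rw [pow_one, ← zpow_natCast, ← zpow_mul, mul_comm, zpow_mul, zpow_natCast, ht2, one_zpow]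
      exact one_mem _
    · rw [hor]
      exact (Nat.coprime_primes hr Nat.prime_two).2 hr2
    · intro d hd
      rw [hzt d hd, mul_inv_cancel_right, mul_inv_cancel]
      exact one_mem _
    · intro v hv hd
      exact (hno v ⟨hv, mem_centralizer_singleton_iff.2 (hd t (mem_zpowers t)).symm⟩).symm
  obtain ⟨u, hu, hug⟩ := not_cent_odd e hE.cent hg hr hr2 hgr hg1
  exact hug (mem_centralizer_iff.1 h1 u hu)

/-- the points not fixed by `t` -/
theorem UU_move {e : N ≃* HNG} {t : G} {ω : Ω} (hω : t • ω ≠ ω) {u : G} (hu : u ∈ UU e t) : t • u • ω ≠ u • ω := by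
  intro h
  rw [← mul_smul, ← mem_centralizer_singleton_iff.1 hu.2, mul_smul] at h
  exact hω (smul_left_cancel _ h)

/-- if `x` fixes the `C_Q(t)`-orbit of `ω` then `[C_Q(t), x]` fixes `ω` -/
theorem cm_le_stab {U : Subgroup G} {x : G} {ω : Ω} (h : ∀ w' ∈ orbit U ω, x • w' = w') : Cm U x ≤ stabilizer G ω := by
  rw [Cm, closure_le]
  rintro _ ⟨u, hu, rfl⟩
  have h0 : x • ω = ω := h ω (mem_orbit_self ω)
  have h4 := h ((u⁻¹ : G) • ω) ⟨⟨u⁻¹, inv_mem hu⟩, rfl⟩
  have h5 : u * x * u⁻¹ ∈ stabilizer G ω := by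
    rw [mem_stabilizer_iff, mul_smul, mul_smul, h4, smul_inv_smul]
  exact mul_mem h5 (inv_mem (show x ∈ stabilizer G ω from h0))

/-- the end of the rules 4 and 5: a nontrivial element of `C_Q(t)` fixing all points not fixed by `t` -/
theorem dead_of_fix [Nonempty Ω] (hRC : RC Cfsg.Spor.HS) (hE : Env G Ω N) (e : N ≃* HNG) {t : G} (ht : t ∉ N)
    (ht2 : t ^ 2 = 1) {w : G} (hw : w ∈ UU e t) (hw1 : w ≠ 1) (hc : ∀ ω : Ω, t • ω ≠ ω → w ∈ stabilizer G ω) : False := by
  obtain ⟨s, hs, hsw⟩ := exists_inv e hw.1 hw1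
  have hwt := mem_centralizer_singleton_iff.1 hw.2
  refine rule3 hRC hE e ht ht2 hs ?_ fun ω => ?_
  · rcases hsw with h | h
    · rw [h, hwt]
    · rw [h]
      calc t * (w * w) = t * w * w := by group
        _ = w * t * w := by rw [← hwt]
        _ = w * (t * w) := by group
        _ = w * (w * t) := by rw [← hwt]
        _ = w * w * t := by group
  · by_cases hω : t • ω = ω
    · exact Or.inr hω
    · left
      have h1 := hc ω hω
      have h2 : j e s ∈ stabilizer G ω := by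
        rcases hsw with h | h
        · rw [h]; exact h1
        · rw [h]; exact mul_mem h1 h1
      exact h2

/-- `{t, x}` is no cover if both commute with `z` -/
theorem rule4B [Nonempty Ω] (hRC : RC Cfsg.Spor.HS) (hE : Env G Ω N) (e : N ≃* HNG) {t x : G} (ht : t ∉ N)
    (ht2 : t ^ 2 = 1) (htz : t * zz e = zz e * t) (hxz : x * zz e = zz e * x) (hxt : x * t = t * x) {r : ℕ} (hr : r.Prime)
    (hr2 : r ≠ 2) (hxr : x ^ r = 1) (hx1 : x ≠ 1) (hc : ∀ ω : Ω, t • ω = ω ∨ x • ω = ω) : False := by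
  obtain ⟨u, hu, hux⟩ := exists_UU hE ht2 htz hxz hxt hr hr2 hxr hx1
  refine dead_of_fix hRC hE e ht ht2 (w := u * x * u⁻¹ * x⁻¹) ?_ ?_ fun ω hω => ?_
  · exact cm_le (UU_norm hxz hxt) (cm_gen hu)
  · intro h
    apply hux
    calc u * x = (u * x * u⁻¹ * x⁻¹) * (x * u) := by group
      _ = x * u := by rw [h, one_mul]
  · refine cm_le_stab (U := UU e t) ?_ (cm_gen hu)
    rintro _ ⟨v, rfl⟩
    exact (hc _).resolve_left (UU_move hω v.2)

theorem pf_two {t x : G} {r : ℕ} (ht2 : t ^ 2 = 1) (ht1 : t ≠ 1) (hr : r.Prime) (hr2 : r ≠ 2) (hxr : x ^ r = 1)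
    (hx1 : x ≠ 1) (hxt : x * t = t * x) : PF (fun b : Bool => cond b t x) (fun b => cond b 2 r) where
  prime b := by cases b; exacts [hr, Nat.prime_two]
  inj a b h := by
    cases a <;> cases b <;> simp_all
  pow b := by cases b; exacts [hxr, ht2]
  ne b := by cases b; exacts [hx1, ht1]
  comm a b := by cases a <;> cases b <;> first | rfl | exact hxt | exact hxt.symm

/-- **`{t, x}` is no cover if an involution of `N` commutes with both** -/
theorem rule4 [Nonempty Ω] (hRC : RC Cfsg.Spor.HS) (hE : Env G Ω N) (e : N ≃* HNG) {t x : G} (ht : t ∉ N)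
    (ht2 : t ^ 2 = 1) (hxt : x * t = t * x) {r : ℕ} (hr : r.Prime) (hr2 : r ≠ 2) (hxr : x ^ r = 1) (hx1 : x ≠ 1)
    {s : HNG} (hs : orderOf s = 2) (hts : t * j e s = j e s * t) (hxs : x * j e s = j e s * x)
    (hc : ∀ ω : Ω, t • ω = ω ∨ x • ω = ω) : False := by
  rcases inv_class hs with h | h
  · refine rule2A hRC hE e (pf_two ht2 (ne_one_of ht) hr hr2 hxr hx1 hxt) h ?_ fun ω => Or.inl ?_
    · intro b; cases b; exacts [hxs, hts]
    · rcases hc ω with h | h
      · exact ⟨true, h⟩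
      · exact ⟨false, h⟩
  · obtain ⟨c, hc'⟩ := exists_tw e h
    refine rule4B hRC hE (tw e c) ht ht2 ?_ ?_ hxt hr hr2 hxr hx1 hc
    · rw [zz, hc']; exact hts
    · rw [zz, hc']; exact hxs

/-- a common nontrivial element of the commutator groups -/
theorem exists_common (hE : Env G Ω N) {e : N ≃* HNG} {t x y : G} (ht2 : t ^ 2 = 1) (htz : t * zz e = zz e * t)
    (hxz : x * zz e = zz e * x) (hxt : x * t = t * x) (hyz : y * zz e = zz e * y) (hyt : y * t = t * y) (hxy : x * y = y * x)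
    {x' : HNG} (hx' : j e x' = x) (hy5 : y ^ 5 = 1) (hy1 : y ≠ 1)
    (h16 : ¬ 16 ∣ Nat.card ↥(centralizer ({x'} : Set HNG))) :
    ∃ w ∈ Cm (UU e t) x, w ∈ Cm (UU e t) y ∧ w ≠ 1 := by
  have hfin : Finite HNG := finH
  by_contra hno
  push Not at hno
  set B := Cm (UU e t) y with hB
  have hBU : B ≤ UU e t := cm_le (UU_norm hyz hyt)
  -- `x` centralises `B`
  have hBx : ∀ b ∈ B, b * x = x * b := by
    intro b hb
    have h1 : b * x * b⁻¹ * x⁻¹ ∈ Cm (UU e t) x := cm_gen (hBU hb)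
    have h2 : b * x * b⁻¹ * x⁻¹ ∈ B := by
      have e1 : b * x * b⁻¹ * x⁻¹ = b * (x * b⁻¹ * x⁻¹) := by group
      rw [e1]
      exact mul_mem hb (cm_conj' hxy (UU_inv hxz hxt) (inv_mem hb))
    have h3 := hno _ h1 h2
    calc b * x = (b * x * b⁻¹ * x⁻¹) * (x * b) := by group
      _ = x * b := by rw [h3, one_mul]
  -- the order of `B`
  have hBp : IsPGroup 2 B := (isP e).to_le (hBU.trans inf_le_left)
  obtain ⟨k, hk⟩ := IsPGroup.iff_card.1 hBp
  have hk3 : k ≤ 3 := by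
    by_contra hlt
    apply h16
    have h1 : 16 ∣ Nat.card B := by
      rw [hk, show (16 : ℕ) = 2 ^ 4 by norm_num]
      exact pow_dvd_pow 2 (by omega)
    refine h1.trans ?_
    have h2 : ∀ b : B, ∃ y : ↥(centralizer ({x'} : Set HNG)), j e (y : HNG) = b := by
      intro b
      obtain ⟨v, hv⟩ := exists_j e (QQ_le e (hBU b.2).1)
      refine ⟨⟨v, mem_centralizer_singleton_iff.2 ?_⟩, hv⟩
      apply j_inj e
      rw [map_mul, map_mul, hv, hx']
      exact hBx b b.2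
    choose f hf using h2
    let F : B →* ↥(centralizer ({x'} : Set HNG)) :=
      { toFun := f
        map_one' := by
          apply Subtype.ext; apply j_inj e
          rw [hf, coe_one, coe_one, map_one]
        map_mul' := fun a b => by
          apply Subtype.ext; apply j_inj e
          rw [hf, coe_mul, coe_mul, map_mul, hf, hf] }
    exact card_dvd_of_injective F fun a b hab => Subtype.ext (by rw [← hf a, ← hf b]; exact congrArg (fun y : ↥(centralizer ({x'} : Set HNG)) => j e (y : HNG)) hab)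
  -- `y` centralises `B`
  have hyB : y ∈ normalizer (B : Set G) :=
    mem_norm_of (fun u hu => cm_conj' rfl (UU_inv hyz hyt) hu)
      (fun u hu => cm_conj' (inv_comm rfl) (UU_inv (inv_comm hyz) (inv_comm hyt)) hu)
  have hfix := fix_of_small B hy5 hyB hk3 hk
  -- `y` centralises `U`
  obtain ⟨u, hu, huy⟩ := exists_UU hE ht2 htz hyz hyt Nat.prime_five (by norm_num) hy5 hy1
  apply huy
  have hcB : u * y * u⁻¹ * y⁻¹ ∈ B := cm_gen hu
  set c := u * y * u⁻¹ * y⁻¹ with hc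
  have h1 : Commute c y := (hfix c hcB).symm
  have h2 : (c * y) ^ 5 = 1 := by
    have e1 : c * y = u * y * u⁻¹ := by rw [hc]; group
    rw [e1, conj_pow, hy5, mul_one, mul_inv_cancel]
  rw [h1.mul_pow, hy5, mul_one] at h2
  obtain ⟨m, hm⟩ := hBp ⟨c, hcB⟩
  have h3 : c ^ 2 ^ m = 1 := congrArg Subtype.val hm
  have h4 : orderOf c ∣ Nat.gcd 5 (2 ^ m) := Nat.dvd_gcd (orderOf_dvd_of_pow_eq_one h2) (orderOf_dvd_of_pow_eq_one h3)
  have h5 : Nat.gcd 5 (2 ^ m) = 1 := Nat.Coprime.pow_right m (by norm_num)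
  rw [h5] at h4
  have h6 : c = 1 := orderOf_eq_one_iff.1 (Nat.dvd_one.1 h4)
  calc u * y = c * (y * u) := by rw [hc]; group
    _ = y * u := by rw [h6, one_mul]

/-- `{t, x, y}` is no cover if all commute with `z` -/
theorem rule5B [Nonempty Ω] (hRC : RC Cfsg.Spor.HS) (hE : Env G Ω N) (e : N ≃* HNG) {t x y : G} (ht : t ∉ N)
    (ht2 : t ^ 2 = 1) (htz : t * zz e = zz e * t)
    (hxz : x * zz e = zz e * x) (hxt : x * t = t * x) (hyz : y * zz e = zz e * y) (hyt : y * t = t * y) (hxy : x * y = y * x)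
    {x' : HNG} (hx' : j e x' = x) (hx3 : x ^ 3 = 1) (hy5 : y ^ 5 = 1) (hy1 : y ≠ 1)
    (h16 : ¬ 16 ∣ Nat.card ↥(centralizer ({x'} : Set HNG)))
    (hc : ∀ ω : Ω, t • ω = ω ∨ x • ω = ω ∨ y • ω = ω) : False := by
  obtain ⟨w, hwx, hwy, hw1⟩ := exists_common hE ht2 htz hxz hxt hyz hyt hxy hx' hy5 hy1 h16
  have hwU : w ∈ UU e t := cm_le (UU_norm hxz hxt) hwx
  refine dead_of_fix hRC hE e ht ht2 hwU hw1 fun ω hω => ?_
  have hUp : IsPGroup 2 (UU e t) := (isP e).to_le inf_le_left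
  obtain ⟨b, hb⟩ := Cfsg.Agent.H393.RC.exists_trivial (ι := Bool) (fun b => cond b x y) (fun b => cond b 3 5)
    (fun b => by cases b <;> norm_num) (fun a b h => by cases a <;> cases b <;> simp_all)
    (fun b => by cases b; exacts [hy5, hx3]) Nat.prime_two (UU e t) hUp
    (fun b => by cases b; exacts [UU_norm hyz hyt, UU_norm hxz hxt]) (fun b h => by cases b <;> norm_num at h) ω
    (by
      rintro _ ⟨v, rfl⟩
      rcases (hc _).resolve_left (UU_move hω v.2) with h | h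
      · exact ⟨true, h⟩
      · exact ⟨false, h⟩)
  cases b
  · exact cm_le_stab hb hwy
  · exact cm_le_stab hb hwx

theorem pf_three {t x y : G} (ht2 : t ^ 2 = 1) (ht1 : t ≠ 1) (hx3 : x ^ 3 = 1)
    (hx1 : x ≠ 1) (hxt : x * t = t * x) (hy5 : y ^ 5 = 1) (hy1 : y ≠ 1) (hyt : y * t = t * y) (hxy : x * y = y * x) :
    PF (![t, x, y]) (![2, 3, 5]) where
  prime i := by fin_cases i <;> norm_num
  inj a b h := by
    fin_cases a <;> fin_cases b <;> simp_all
  pow i := by fin_cases i; exacts [ht2, hx3, hy5]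
  ne i := by fin_cases i; exacts [ht1, hx1, hy1]
  comm a b := by
    fin_cases a <;> fin_cases b <;> first | rfl | exact hxt | exact hxt.symm | exact hyt | exact hyt.symm | exact hxy | exact hxy.symm

/-- **`{t, x, y}` is no cover if an involution `s` of `N` commutes with all**, `s` in 2A or `16 ∤ |C_N(x)|` -/
theorem rule5 [Nonempty Ω] (hRC : RC Cfsg.Spor.HS) (hE : Env G Ω N) (e : N ≃* HNG) {t x y : G} (ht : t ∉ N)
    (ht2 : t ^ 2 = 1) (hxt : x * t = t * x) (hyt : y * t = t * y) (hxy : x * y = y * x)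
    {x' : HNG} (hx' : j e x' = x) (hx3 : x ^ 3 = 1) (hx1 : x ≠ 1) (hy5 : y ^ 5 = 1) (hy1 : y ≠ 1)
    {s : HNG} (hs : orderOf s = 2) (hts : t * j e s = j e s * t) (hxs : x * j e s = j e s * x) (hys : y * j e s = j e s * y)
    (h16 : IsConj s W0 → ¬ 16 ∣ Nat.card ↥(centralizer ({x'} : Set HNG)))
    (hc : ∀ ω : Ω, t • ω = ω ∨ x • ω = ω ∨ y • ω = ω) : False := by
  rcases inv_class hs with h | h
  · refine rule2A hRC hE e (pf_three ht2 (ne_one_of ht) hx3 hx1 hxt hy5 hy1 hyt hxy) h ?_ fun ω => Or.inl ?_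
    · intro i; fin_cases i; exacts [hts, hxs, hys]
    · rcases hc ω with h | h | h
      · exact ⟨0, h⟩
      · exact ⟨1, h⟩
      · exact ⟨2, h⟩
  · obtain ⟨c, hc'⟩ := exists_tw e h
    refine rule5B (x' := c * x' * c⁻¹) hRC hE (tw e c) ht ht2 ?_ ?_ hxt ?_ hyt hxy ?_ hx3 hy5 hy1 ?_ hc
    · rw [zz, hc']; exact hts
    · rw [zz, hc']; exact hxs
    · rw [zz, hc']; exact hys
    · rw [j_tw, ← hx']; congr 1; group
    · rw [Cfsg.Agent.H287.OutHN.card_centralizer_conj]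
      exact h16 h

end rules

end Cfsg.Agent.H680.RG.HN
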